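import Cfsg.Agent.Lib.RootCent.Model

/-!
The centraliser in `PSp₄(F)` of an element of order `p` in the centre of a Sylow `p`-subgroup.
-/

set_option autoImplicit false

namespace CfsgLib.RootCent

open Matrix CfsgLib.Classical Cfsg
open CfsgLib.Classical.SympTrans

variable {F : Type*} [Field F]

local notation "S" => Matrix.symplecticGroup (Fin 2) F

/-- Minus the identity in `Sp₄`. -/
def negOne : S := ⟨-1, mem_iff_f.2 fun u v => by
  rw [neg_mulVec, neg_mulVec, one_mulVec, one_mulVec, f_apply, f_apply]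
  simp⟩

theorem app_negOne (x : Fin 2 ⊕ Fin 2 → F) : app (negOne : S) x = -x := by
  show (-1 : Matrix _ _ F) *ᵥ x = -x
  rw [neg_mulVec, one_mulVec]

theorem negOne_central : (negOne : S) ∈ Subgroup.center S :=
  Subgroup.mem_center_iff.2 fun g => ext_app fun x => by
    rw [app_mul, app_mul, app_negOne, app_negOne]
    exact mulVec_neg _ _

theorem T_eq_T {v w : Fin 2 ⊕ Fin 2 → F} {c : F} (hc : c ≠ 0) (hv : v ≠ 0) (h : T w c = (T v c : S)) :
    w = v ∨ w = -v := by
  obtain ⟨x, hx⟩ : ∃ x, sympForm 2 F x v ≠ 0 := by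
    by_contra hx
    push Not at hx
    exact hv (eq_zero_of_f v fun x => by rw [f_swap, hx x, neg_zero])
  have h1 := congrArg (fun g : S => app g x) h
  simp only [app_T, add_right_inj] at h1
  have hw : (c * sympForm 2 F x w) ≠ 0 := by
    intro h0
    rw [h0, zero_smul] at h1
    exact smul_ne_zero (mul_ne_zero hc hx) hv h1.symm
  set μ := (c * sympForm 2 F x w)⁻¹ * (c * sympForm 2 F x v) with hμ
  have hwv : w = μ • v := by
    rw [hμ, mul_smul, ← h1, smul_smul, inv_mul_cancel₀ hw, one_smul]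
  rw [hwv, T_smul] at h
  have h2 := congrArg (fun g : S => app g x) h
  simp only [app_T, add_right_inj] at h2
  have h3 : μ * μ * c * sympForm 2 F x v = c * sympForm 2 F x v := smul_left_injective F hv h2
  have h4 : μ * μ = 1 := by
    have := mul_right_cancel₀ hx h3
    exact mul_right_cancel₀ hc (this.trans (one_mul c).symm)
  rcases mul_self_eq_one_iff.1 h4 with h5 | h5
  · left; rw [hwv, h5, one_smul]
  · right; rw [hwv, h5, neg_one_smul]

theorem center_sq {g : S} (hg : g ∈ Subgroup.center S) : g * g = 1 := by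
  refine ext_app fun v => ?_
  rw [app_mul, app_one]
  by_cases hv : v = 0
  · subst hv
    have h0 : app g (0 : Fin 2 ⊕ Fin 2 → F) = 0 := mulVec_zero _
    rw [h0, h0]
  have h : T (app g v) 1 = (T v 1 : S) := by
    rw [← conj_T, ← Subgroup.mem_center_iff.1 hg (T v 1), mul_inv_cancel_right]
  rcases T_eq_T one_ne_zero hv h with h1 | h1
  · rw [h1, h1]
  · have h2 : app g (-v) = -app g v := mulVec_neg _ _
    rw [h1, h2, h1, neg_neg]

theorem T_eL_eq (c : F) : (T (eL F) c : S) = toSp (AS.zc c) := by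
  refine ext_app fun x => funext fun i => ?_
  rw [app_T]
  simp only [f_apply, Fin.sum_univ_two, Pi.add_apply, Pi.smul_apply, smul_eq_mul, app, toSp,
    MonoidHom.coe_mk, OneHom.coe_mk, AS.mat, AS.zc, mulVec, dotProduct, Fintype.sum_sum_type]
  rcases i with i | i <;> fin_cases i <;> simp [eL]

/-- A `hv` element. -/
theorem AS.hv_mul (y y' : F) (g : AS F) : AS.hv y y' * g =
    ⟨y + g.w0, y' + g.w1, g.z + (y * g.w1 - y' * g.w0), g.a, g.b, g.c, g.d, g.hdet⟩ := by
  ext <;> simp [AS.hv]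

variable (F) in
/-- The normal subgroup `A = 1`. -/
def heis : Subgroup (AS F) where
  carrier := {g | g.a = 1 ∧ g.b = 0 ∧ g.c = 0 ∧ g.d = 1}
  one_mem' := ⟨rfl, rfl, rfl, rfl⟩
  mul_mem' := fun {x y} hx hy => by
    obtain ⟨a1, a2, a3, a4⟩ := hx
    obtain ⟨b1, b2, b3, b4⟩ := hy
    simp [a1, a2, a3, a4, b1, b2, b3, b4]
  inv_mem' := fun {x} hx => by
    obtain ⟨a1, a2, a3, a4⟩ := hx
    exact ⟨a4, by show -x.b = 0; simp [a2], by show -x.c = 0; simp [a3], a1⟩

instance : (heis F).Normal := by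
  refine ⟨fun n hn g => ?_⟩
  obtain ⟨a1, a2, a3, a4⟩ := hn
  have hd := g.hdet
  refine ⟨?_, ?_, ?_, ?_⟩ <;> simp [Inv.inv, a1, a2, a3, a4] <;>
    first
      | ring1
      | linear_combination hd

theorem heis_pow {g : AS F} (hg : g ∈ heis F) (k : ℕ) :
    (g ^ k).w0 = k * g.w0 ∧ (g ^ k).w1 = k * g.w1 ∧ (g ^ k).z = k * g.z ∧ g ^ k ∈ heis F := by
  induction k with
  | zero => simp [one_mem]
  | succ k ih =>
    obtain ⟨h1, h2, h3, h4⟩ := ih
    obtain ⟨a1, a2, a3, a4⟩ := h4
    refine ⟨?_, ?_, ?_, pow_mem hg _⟩ <;> simp [pow_succ, a1, a2, a3, a4, h1, h2, h3] <;> ring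

theorem eq_zc_of_commute {g : AS F} (h : ∀ x ∈ heis F, x * g = g * x) (h2 : (2 : F) ≠ 0) :
    g = AS.zc g.z := by
  have e1 := h (AS.hv 1 0) ⟨rfl, rfl, rfl, rfl⟩
  have e2 := h (AS.hv 0 1) ⟨rfl, rfl, rfl, rfl⟩
  simp [AS.ext_iff, AS.hv] at e1 e2
  obtain ⟨a1, c1, z1⟩ := e1
  obtain ⟨b1, d1, z2⟩ := e2
  have hc : g.c = 0 := c1
  have ha : g.a = 1 := by linear_combination -a1
  have hb : g.b = 0 := b1
  have hd : g.d = 1 := by linear_combination -d1
  have hw1 : g.w1 = 0 := by
    rw [ha, hc] at z1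
    have : (2 : F) * g.w1 = 0 := by linear_combination z1
    exact (mul_eq_zero.1 this).resolve_left h2
  have hw0 : g.w0 = 0 := by
    rw [hb, hd] at z2
    have : (2 : F) * g.w0 = 0 := by linear_combination -z2
    exact (mul_eq_zero.1 this).resolve_left h2
  ext <;> simp [AS.zc, ha, hb, hc, hd, hw0, hw1]

/-- Conjugate elements have isomorphic centralisers. -/
noncomputable def centEquiv {K : Type*} [Group K] (k : K) {a x : K} (h : k * a * k⁻¹ = x) :
    Subgroup.centralizer ({a} : Set K) ≃* Subgroup.centralizer ({x} : Set K) where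
  toFun g := ⟨k * g * k⁻¹, Subgroup.mem_centralizer_singleton_iff.2 (by
    rw [← h]
    have := Subgroup.mem_centralizer_singleton_iff.1 g.2
    calc k * g * k⁻¹ * (k * a * k⁻¹) = k * (g * a) * k⁻¹ := by group
      _ = k * (a * g) * k⁻¹ := by rw [this]
      _ = k * a * k⁻¹ * (k * g * k⁻¹) := by group)⟩
  invFun g := ⟨k⁻¹ * g * k, Subgroup.mem_centralizer_singleton_iff.2 (by
    have := Subgroup.mem_centralizer_singleton_iff.1 g.2
    have e : a = k⁻¹ * x * k := by rw [← h]; group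
    rw [e]
    calc k⁻¹ * g * k * (k⁻¹ * x * k) = k⁻¹ * (g * x) * k := by group
      _ = k⁻¹ * (x * g) * k := by rw [this]
      _ = k⁻¹ * x * k * (k⁻¹ * g * k) := by group)⟩
  left_inv g := Subtype.ext (by simp [mul_assoc])
  right_inv g := Subtype.ext (by simp [mul_assoc])
  map_mul' g g' := Subtype.ext (by simp [mul_assoc])

section Finite

variable [Finite F] {p : ℕ} [hp : Fact p.Prime] [CharP F p]

omit [Finite F] hp in
theorem toSp_zc_pow (c : F) : (toSp (AS.zc c) : S) ^ p = 1 := by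
  rw [← map_pow, ← map_one (toSp (F := F))]
  congr 1
  obtain ⟨h1, h2, h3, a1, a2, a3, a4⟩ := heis_pow (g := AS.zc c) ⟨rfl, rfl, rfl, rfl⟩ p
  ext <;> simp [h1, h2, h3, a1, a2, a3, a4]

omit [Finite F] in
theorem range_root (hp2 : p ≠ 2) {z : F} (hz : z ≠ 0) :
    ((QuotientGroup.mk' (Subgroup.center S)).comp toSp).range =
      Subgroup.centralizer ({QuotientGroup.mk' (Subgroup.center S) (T (eL F) z)} : Set (Cfsg.PSp 2 F)) := by
  ext q
  rw [Subgroup.mem_centralizer_singleton_iff]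
  constructor
  · rintro ⟨g, rfl⟩
    rw [MonoidHom.comp_apply, T_eL_eq, ← map_mul, ← map_mul, ← map_mul, ← map_mul]
    congr 2
    ext <;> simp [AS.zc] <;> ring
  · intro hq
    obtain ⟨g, rfl⟩ := QuotientGroup.mk'_surjective _ q
    set X : S := T (eL F) z with hX
    set c := g * X * g⁻¹ * X⁻¹ with hc
    have hcZ : c ∈ Subgroup.center S := by
      rw [← QuotientGroup.eq_one_iff]
      show QuotientGroup.mk' (Subgroup.center S) _ = 1
      rw [hc, map_mul, map_mul, map_mul, map_inv, map_inv, hq, mul_inv_cancel_right, mul_inv_cancel]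
    have hXp : X ^ p = 1 := by rw [hX, T_eL_eq, toSp_zc_pow]
    have hcm : Commute c X := (Subgroup.mem_center_iff.1 hcZ _).symm
    have h2 : c * X = g * X * g⁻¹ := by rw [hc, inv_mul_cancel_right]
    have hcp : c ^ p = 1 := by
      have h3 := congrArg (fun s : S => s ^ p) h2
      simp only [hcm.mul_pow, conj_pow, hXp, mul_one, mul_inv_cancel] at h3
      exact h3
    have hc1 : c = 1 := by
      rw [← orderOf_eq_one_iff]
      exact Nat.eq_one_of_dvd_coprimes ((Nat.coprime_primes hp.out Nat.prime_two).2 hp2)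
        (orderOf_dvd_of_pow_eq_one hcp) (orderOf_dvd_of_pow_eq_one (by rw [pow_two, center_sq hcZ]))
    rw [hc1, one_mul] at h2
    have h3 : T (app g (eL F)) z = (T (eL F) z : S) := by rw [← conj_T, ← h2]
    rcases T_eq_T hz eL_ne h3 with h4 | h4
    · obtain ⟨w, hw⟩ := exists_toSp h4
      exact ⟨w, by rw [MonoidHom.comp_apply, hw]⟩
    · obtain ⟨w, hw⟩ := exists_toSp (g := negOne * g) (by rw [app_mul, h4, app_negOne, neg_neg])
      refine ⟨w, ?_⟩
      rw [MonoidHom.comp_apply, hw, map_mul,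
        show QuotientGroup.mk' (Subgroup.center S) negOne = 1 from
          (QuotientGroup.eq_one_iff _).2 negOne_central, one_mul]

omit [Finite F] hp [CharP F p] in
theorem root_injective (h2F : (2 : F) ≠ 0) :
    Function.Injective ((QuotientGroup.mk' (Subgroup.center S)).comp toSp) := by
  refine (injective_iff_map_eq_one _).2 fun g hg => ?_
  have h3 : toSp g ∈ Subgroup.center S := (QuotientGroup.eq_one_iff _).1 hg
  have hgz : g = AS.zc g.z := eq_zc_of_commute (fun h _ => toSp_injective (by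
    rw [map_mul, map_mul, Subgroup.mem_center_iff.1 h3])) h2F
  have h4 : g * g = 1 := toSp_injective (by rw [map_mul, center_sq h3, map_one])
  have h5 : (2 : F) * g.z = 0 := by
    have := congrArg AS.z h4
    rw [hgz] at this
    simp [AS.zc] at this
    linear_combination this
  rw [hgz, (mul_eq_zero.1 h5).resolve_left h2F]
  rfl

omit [Finite F] hp in
theorem two_ne (hp2 : p ≠ 2) : (2 : F) ≠ 0 := Ring.two_ne_zero (by rw [ringChar.eq F p]; exact hp2)

/-- `AS` is the centraliser of a root element in `PSp₄`. -/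
noncomputable def equiv_root (hp2 : p ≠ 2) {z : F} (hz : z ≠ 0) :
    AS F ≃* Subgroup.centralizer
      ({QuotientGroup.mk' (Subgroup.center S) (T (eL F) z)} : Set (Cfsg.PSp 2 F)) :=
  (MonoidHom.ofInjective (root_injective (two_ne hp2))).trans
    (MulEquiv.subgroupCongr (range_root hp2 hz))

omit [Finite F] hp in
theorem heis_isPGroup : IsPGroup p (heis F) := fun g => ⟨1, Subtype.ext (by
  obtain ⟨h1, h2, h3, a1, a2, a3, a4⟩ := heis_pow g.2 p
  rw [pow_one, Subgroup.coe_pow, Subgroup.coe_one]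
  ext <;> simp [h1, h2, h3, a1, a2, a3, a4])⟩

set_option maxHeartbeats 800000 in
theorem exists_equiv (hp2 : p ≠ 2) (U : Sylow p (Cfsg.PSp 2 F)) {x : Cfsg.PSp 2 F}
    (hx : orderOf x = p) (hxU : x ∈ (U : Subgroup (Cfsg.PSp 2 F)))
    (hxc : ∀ y ∈ (U : Subgroup (Cfsg.PSp 2 F)), y * x = x * y) :
    Nonempty (AS F ≃* Subgroup.centralizer ({x} : Set (Cfsg.PSp 2 F))) := by
  have h2F : (2 : F) ≠ 0 := Ring.two_ne_zero (by rw [ringChar.eq F p]; exact hp2)
  let π : S →* Cfsg.PSp 2 F := QuotientGroup.mk' (Subgroup.center S)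
  have hπ : Function.Surjective π := QuotientGroup.mk'_surjective _
  obtain ⟨T₀⟩ : Nonempty (Sylow p S) := inferInstance
  obtain ⟨k, hk⟩ := MulAction.exists_smul_eq (Cfsg.PSp 2 F) (T₀.mapSurjective hπ) U
  obtain ⟨k, rfl⟩ := hπ k
  obtain ⟨P, hPU⟩ : ∃ P : Sylow p S, (U : Subgroup (Cfsg.PSp 2 F)) = (P : Subgroup S).map π := by
    refine ⟨k • T₀, ?_⟩
    rw [← hk, Sylow.coe_subgroup_smul, Sylow.coe_mapSurjective, Sylow.coe_subgroup_smul]
    ext y
    simp only [Subgroup.mem_pointwise_smul_iff_inv_smul_mem, Subgroup.mem_map, MulAut.smul_def]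
    constructor
    · rintro ⟨a, ha, hay⟩
      refine ⟨MulAut.conj k a, by simpa [mul_assoc] using ha, ?_⟩
      simp only [MulAut.conj_apply, MulAut.inv_def, MulAut.conj_symm_apply, map_mul, map_inv] at hay ⊢
      rw [hay]; group
    · rintro ⟨a, ha, rfl⟩
      exact ⟨_, ha, by simp⟩
  -- a fixed vector of `P`
  let : MulAction P (Fin 2 ⊕ Fin 2 → F) :=
    { smul := fun g v => app (g : S) v
      one_smul := fun v => app_one v
      mul_smul := fun g h v => app_mul (g : S) (h : S) v }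
  obtain ⟨v, hv, hv0⟩ : ∃ v ∈ MulAction.fixedPoints P (Fin 2 ⊕ Fin 2 → F), (0 : Fin 2 ⊕ Fin 2 → F) ≠ v :=
    P.isPGroup'.exists_fixed_point_of_prime_dvd_card_of_fixed_point _ (by
      rw [Nat.card_fun]
      refine dvd_pow ?_ (by simp)
      have := Fintype.ofFinite F
      obtain ⟨n, _, hcard⟩ := FiniteField.card F p
      rw [Nat.card_eq_fintype_card, hcard]
      exact dvd_pow_self p n.ne_zero)
      (fun g => show app (g : S) 0 = 0 from mulVec_zero _)
  obtain ⟨g0, hg0⟩ := exists_app_eq (Ne.symm hv0) (eL_ne (F := F))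
  let c0 : S →* S := (MulAut.conj g0).toMonoidHom
  -- the conjugate Sylow subgroup fixing the base vector
  let R : Subgroup S := (P : Subgroup S).map c0
  have hR : IsPGroup p R := P.isPGroup'.map _
  have hRfix : ∀ r ∈ R, app r (eL F) = eL F := by
    rintro r ⟨g, hg, rfl⟩
    show app (g0 * g * g0⁻¹) (eL F) = eL F
    rw [← hg0, app_mul, app_mul, app_inv, show app g v = v from hv ⟨g, hg⟩, hg0]
  have hle : (heis F).map toSp ≤ R := by
    have hnorm : R ≤ Subgroup.normalizer ((heis F).map toSp : Set S) := by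
      intro r hr
      obtain ⟨y, rfl⟩ := exists_toSp (hRfix r hr)
      exact Subgroup.le_normalizer_map _ ⟨y, by
        rw [Subgroup.normalizer_eq_top]; trivial, rfl⟩
    have hsup : IsPGroup p (R ⊔ (heis F).map toSp : Subgroup S) :=
      hR.to_sup_of_normal_right' (heis_isPGroup.map _) hnorm
    have : IsPGroup p ((R ⊔ (heis F).map toSp).map (MulAut.conj g0⁻¹).toMonoidHom : Subgroup S) :=
      hsup.map _
    have heq := P.3 this (by
      intro g hg
      refine ⟨c0 g, Subgroup.mem_sup_left ⟨g, hg, rfl⟩, ?_⟩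
      simp [c0, mul_assoc])
    intro y hy
    refine ⟨g0⁻¹ * y * g0, ?_, by simp [c0, mul_assoc]⟩
    rw [← heq]
    exact ⟨y, Subgroup.mem_sup_right hy, by simp⟩
  -- the preimage of `x`
  obtain ⟨X, hXP, hXx⟩ : x ∈ (P : Subgroup S).map π := hPU ▸ hxU
  have hXcomm : ∀ g ∈ (P : Subgroup S), g * X = X * g := by
    intro g hg
    set c := g * X * g⁻¹ * X⁻¹ with hc
    have hcP : c ∈ (P : Subgroup S) := mul_mem (mul_mem (mul_mem hg hXP) (inv_mem hg)) (inv_mem hXP)
    have hcZ : c ∈ Subgroup.center S := by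
      rw [← QuotientGroup.eq_one_iff]
      show π c = 1
      rw [hc, map_mul, map_mul, map_mul, map_inv, map_inv, hXx,
        hxc _ (hPU.symm ▸ ⟨g, hg, rfl⟩), mul_inv_cancel_right, mul_inv_cancel]
    have h1 : c = 1 := by
      obtain ⟨j, hj⟩ := P.isPGroup' ⟨c, hcP⟩
      have hj' : c ^ p ^ j = 1 := by simpa using congrArg Subtype.val hj
      rw [← orderOf_eq_one_iff]
      exact Nat.eq_one_of_dvd_coprimes
        (Nat.Coprime.pow_left j ((Nat.coprime_primes hp.out Nat.prime_two).2 hp2))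
        (orderOf_dvd_of_pow_eq_one hj') (orderOf_dvd_of_pow_eq_one (by rw [pow_two, center_sq hcZ]))
    rw [hc, mul_inv_eq_one, mul_inv_eq_iff_eq_mul] at h1
    exact h1
  obtain ⟨y, hy⟩ := exists_toSp (hRfix (c0 X) ⟨X, hXP, rfl⟩)
  have hyz : y = AS.zc y.z := eq_zc_of_commute (fun h hh => toSp_injective (by
    obtain ⟨g, hg, hge⟩ := hle ⟨h, hh, rfl⟩
    rw [map_mul, map_mul, hy, ← hge, ← map_mul, ← map_mul, hXcomm g hg])) h2F
  have hz0 : y.z ≠ 0 := by
    intro h0
    have : X = 1 := by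
      have h1 : c0 X = 1 := by
        rw [← hy, hyz, h0, ← map_one (toSp (F := F))]
        rfl
      exact (map_eq_one_iff c0 (MulAut.conj g0).injective).1 h1
    rw [this, map_one] at hXx
    rw [← hXx, orderOf_one] at hx
    exact hp.out.one_lt.ne hx
  have hXT : c0 X = T (eL F) y.z := by rw [T_eL_eq, ← hyz, hy]
  -- the isomorphism
  refine ⟨(equiv_root hp2 hz0).trans (centEquiv (π g0⁻¹) ?_)⟩
  rw [← hXT]
  show π g0⁻¹ * π (g0 * X * g0⁻¹) * (π g0⁻¹)⁻¹ = x
  rw [← hXx, ← map_mul, ← map_inv, ← map_mul]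
  congr 1
  group

end Finite

end CfsgLib.RootCent
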