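import Cfsg.Agent.Lib.RootCent.Plane

/-!
Identification of `N(M)/M`: it is the image of `GL₂(F)` acting on symmetric matrices.
-/

set_option autoImplicit false

open scoped Pointwise

namespace CfsgLib.RootCent

variable {F : Type*} [Field F]

theorem mem_Xs {v : F × F × F} : v ∈ Xs F ↔ v.1 = 0 ∧ v.2.1 = 0 :=
  ⟨by rintro ⟨b, rfl⟩; exact ⟨rfl, rfl⟩, fun h => ⟨v.2.2, Prod.ext h.1.symm (Prod.ext h.2.symm rfl)⟩⟩

theorem Xs_ne_Zs : Xs F ≠ Zs F := fun h => by
  have h1 : ((0 : F), (0 : F), (1 : F)) ∈ Zs F := h ▸ ⟨1, rfl⟩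
  exact one_ne_zero (congrArg Prod.snd (mem_Zs.1 h1))

/-- Conjugation by `(c, y, b) ↦ (c - γ b, y, b)`. -/
def shear (γ : F) : Equiv.Perm (F × F × F) where
  toFun v := (v.1 - γ * v.2.2, v.2.1, v.2.2)
  invFun v := (v.1 + γ * v.2.2, v.2.1, v.2.2)
  left_inv v := by simp
  right_inv v := by simp

theorem shear_apply (γ c y b : F) : shear γ (c, y, b) = (c - γ * b, y, b) := rfl

theorem shear_zI (γ d : F) : shear γ (zI d) = zI d := by simp [zI, shear_apply]

theorem shear_snd (γ : F) (v : F × F × F) : (shear γ v).2 = v.2 := rfl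

theorem shear_comm_uA (γ a : F) : shear γ * uA a = uA a * shear γ := Equiv.ext fun v => by
  obtain ⟨c, y, b⟩ := v
  simp [Equiv.Perm.mul_apply, uA_apply, shear_apply]
  ring

theorem shear_comm_tA {γ : F} (hγ : ∀ s : Fˣ, γ * (s : F) ^ 2 = γ) (s : Fˣ) :
    shear γ * tA s = tA s * shear γ := Equiv.ext fun v => by
  obtain ⟨c, y, b⟩ := v
  simp [Equiv.Perm.mul_apply, tA_apply, shear_apply, ← mul_assoc, hγ s]

/-- The scalar `-1` is in the kernel. -/
theorem sAct_eq_one {g : GL (Fin 2) F} (h : sAct F g = 1) :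
    g = 1 ∨ g = Matrix.GeneralLinearGroup.scalar (Fin 2) (-1 : Fˣ) := by
  have h1 := congrArg (fun e : Equiv.Perm (F × F × F) => e (1, 0, 0)) h
  have h2 := congrArg (fun e : Equiv.Perm (F × F × F) => e (0, 1, 0)) h
  have h3 := congrArg (fun e : Equiv.Perm (F × F × F) => e (0, 0, 1)) h
  simp [sAct_apply, sFun, Prod.ext_iff] at h1 h2 h3
  set M := (g : Matrix (Fin 2) (Fin 2) F) with hM
  have h10 : M 1 0 = 0 := h1.2.2
  have h01 : M 0 1 = 0 := h3.1
  have hmid : M 0 0 * M 1 1 = 1 := by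
    have := h2.2.1
    rw [h10, mul_zero, add_zero] at this
    exact this
  rcases mul_self_eq_one_iff.1 (show M 0 0 * M 0 0 = 1 by
    rcases h1.1 with h | h <;> rw [h] <;> ring) with h00 | h00
  · refine Or.inl (Units.ext (Matrix.ext fun i j => ?_))
    rw [h00, one_mul] at hmid
    rw [← hM]
    fin_cases i <;> fin_cases j <;> simp [h00, h10, h01, hmid]
  · refine Or.inr (Units.ext (Matrix.ext fun i j => ?_))
    rw [h00, neg_one_mul, neg_eq_iff_eq_neg] at hmid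
    rw [← hM]
    fin_cases i <;> fin_cases j <;> simp [h00, h10, h01, hmid]

variable [Finite F] {p : ℕ} {L : Subgroup (Equiv.Perm (F × F × F))}

namespace IsCfg

variable (K : IsCfg p L)

include K

theorem exists_sq (x : Fˣ) : ∃ u : Fˣ, x = u * u ∨ x = -(u * u) := by
  have := Fintype.ofFinite F
  classical
  have hF : ringChar F ≠ 2 := by have := K.char; rw [ringChar.eq F p]; exact K.odd
  have hmod : Fintype.card F % 4 = 3 := by rw [← Nat.card_eq_fintype_card]; exact K.card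
  have hneg : ¬ IsSquare (-1 : F) := fun h => FiniteField.isSquare_neg_one_iff.1 h hmod
  by_cases hx : IsSquare (x : F)
  · obtain ⟨r, hr⟩ := hx
    have hr0 : r ≠ 0 := fun h => x.ne_zero (by rw [hr, h, mul_zero])
    exact ⟨Units.mk0 r hr0, Or.inl (Units.ext hr)⟩
  · have h1 : quadraticChar F (x : F) = -1 := quadraticChar_neg_one_iff_not_isSquare.2 hx
    have h2 : quadraticChar F (-1 : F) = -1 := quadraticChar_neg_one_iff_not_isSquare.2 hneg
    have h3 : quadraticChar F (-(x : F)) = 1 := by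
      rw [← neg_one_mul (x : F), map_mul, h1, h2]; rfl
    obtain ⟨r, hr⟩ := (quadraticChar_one_iff_isSquare (neg_ne_zero.2 x.ne_zero)).1 h3
    have hr0 : r ≠ 0 := fun h => x.ne_zero (by rw [← neg_eq_zero, hr, h, mul_zero])
    exact ⟨Units.mk0 r hr0, Or.inr (Units.ext (by simp [← hr]))⟩

theorem cent_Y {g : Equiv.Perm (F × F × F)} (hg : g ∈ cent L) (y : F) :
    g (0, y, 0) = (0, (g (0, y, 0)).2.1, 0) := by
  obtain ⟨hgL, hgh⟩ := mem_cent.1 hg
  have h1 : hA F (g (0, y, 0)) + g (0, y, 0) = 0 := by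
    rw [← Equiv.Perm.mul_apply, ← hgh, Equiv.Perm.mul_apply, hA_apply, ← K.add g hgL]
    simp [K.map_zero hgL, show ((0 : F), (0 : F), (0 : F)) = 0 from rfl]
  obtain ⟨c, y', b, hv⟩ : ∃ c y' b, g ((0 : F), y, (0 : F)) = (c, y', b) := ⟨_, _, _, rfl⟩
  rw [hv] at h1 ⊢
  rw [hA_apply] at h1
  simp [Prod.ext_iff] at h1
  have hc : (2 : F) * c = 0 := by linear_combination h1.1
  have hb : (2 : F) * b = 0 := by linear_combination h1.2
  rw [(mul_eq_zero.1 hc).resolve_left K.two_ne, (mul_eq_zero.1 hb).resolve_left K.two_ne]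

theorem exists_other : ∃ g ∈ cent L, g • Zs F ≠ Zs F ∧
    MulAction.orbit (cent L) (Zs F) = {Zs F, g • Zs F} := by
  obtain ⟨P, hP, hPne⟩ :=
    Set.exists_ne_of_one_lt_ncard (by rw [K.orbit_two]; exact one_lt_two) (Zs F)
  obtain ⟨⟨g, hg⟩, rfl⟩ := hP
  refine ⟨g, hg, hPne, (Set.eq_of_subset_of_ncard_le ?_ ?_ (Set.toFinite _)).symm⟩
  · rintro Q (rfl | rfl)
    · exact MulAction.mem_orbit_self _
    · exact ⟨⟨g, hg⟩, rfl⟩
  · have hPne' : g • Zs F ≠ Zs F := hPne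
    rw [K.orbit_two, Set.ncard_pair hPne'.symm]

theorem exists_gamma : ∃ g ∈ cent L, g • Zs F ≠ Zs F ∧ ∃ γ : F,
    (∀ s : Fˣ, γ * (s : F) ^ 2 = γ) ∧ ∀ d, (g (zI d)).1 = γ * (g (zI d)).2.2 := by
  obtain ⟨g, hg, hne, horb⟩ := K.exists_other
  refine ⟨g, hg, hne, ?_⟩
  by_cases hs : ∃ s : Fˣ, (s : F) ^ 2 ≠ 1
  · obtain ⟨s, hs⟩ := hs
    refine ⟨0, fun s => zero_mul _, fun d => ?_⟩
    have htc : tA s ∈ cent L := mem_cent.2 ⟨K.ht s, by rw [hA, tA_mul, tA_mul, mul_comm]⟩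
    have hmem : tA s • g • Zs F ∈ MulAction.orbit (cent L) (Zs F) :=
      ⟨⟨tA s * g, mul_mem htc hg⟩, mul_smul (tA s) g (Zs F)⟩
    rw [horb] at hmem
    have hfix : tA s • g • Zs F = g • Zs F := hmem.resolve_left fun h =>
      hne (smul_left_cancel (tA s) (h.trans (tA_smul_Zs s).symm))
    have hX : g (zI d) ∈ Xs F := by
      rw [← K.axis_of_fix hg hne hs hfix]; exact Set.smul_mem_smul_set ⟨d, rfl⟩
    rw [(mem_Xs.1 hX).1, zero_mul]
  · push Not at hs
    refine ⟨(g (zI 1)).1 / (g (zI 1)).2.2, fun s => by rw [hs s, mul_one], fun d => ?_⟩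
    have hgL := (mem_cent.1 hg).1
    have hb : (g (zI 1)).2.2 ≠ 0 := K.b_ne hgL one_ne_zero (K.smul_Zs_ne hgL hne)
    by_cases hd : d = 0
    · subst hd
      rw [show zI (0 : F) = 0 from rfl, K.map_zero hgL]
      simp
    rcases sq_eq_one_iff.1 (hs (Units.mk0 d hd)) with h | h
    · rw [show d = 1 from h, div_mul_cancel₀ _ hb]
    · have hd1 : d = -1 := h
      have h1 : g (zI d) + g (zI 1) = 0 := by
        rw [← K.add g hgL, hd1]
        simp [zI, show ((0 : F), (0 : F), (0 : F)) = 0 from rfl, K.map_zero hgL]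
      rw [eq_neg_of_add_eq_zero_left h1]
      simp [hb]

theorem exists_conj : ∃ L' : Subgroup (Equiv.Perm (F × F × F)), IsCfg p L' ∧ Nonempty (L ≃* L') ∧
    ∃ w ∈ cent L', w • Zs F = Xs F := by
  obtain ⟨g, hg, hne, γ, hγ, hgγ⟩ := K.exists_gamma
  set Γ := shear γ with hΓ
  have hzI : ∀ d, Γ⁻¹ (zI d) = zI d := fun d => by
    rw [Equiv.Perm.inv_def, Equiv.symm_apply_eq]; exact (shear_zI γ d).symm
  have hmem : ∀ h : Equiv.Perm (F × F × F), h ∈ L →
      Γ * h * Γ⁻¹ ∈ L.map (MulAut.conj Γ).toMonoidHom := fun h hh => ⟨h, hh, rfl⟩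
  have hu : ∀ a, Γ * uA a * Γ⁻¹ = uA a := fun a => by rw [shear_comm_uA, mul_inv_cancel_right]
  have ht : ∀ s, Γ * tA s * Γ⁻¹ = tA s := fun s => by rw [shear_comm_tA hγ, mul_inv_cancel_right]
  refine ⟨L.map (MulAut.conj Γ).toMonoidHom, ⟨K.prime, K.odd, K.char, K.card, ?_, ?_, ?_, ?_, ?_, ?_, ?_⟩,
    ⟨L.equivMapOfInjective _ (MulAut.conj Γ).injective⟩, Γ * g * Γ⁻¹, ?_, ?_⟩
  · rintro _ ⟨h, hh, rfl⟩ v w
    show Γ (h (Γ⁻¹ (v + w))) = Γ (h (Γ⁻¹ v)) + Γ (h (Γ⁻¹ w))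
    have h1 : ∀ v w : F × F × F, Γ (v + w) = Γ v + Γ w := fun v w => by
      refine Prod.ext ?_ rfl
      show v.1 + w.1 - γ * (v.2.2 + w.2.2) = v.1 - γ * v.2.2 + (w.1 - γ * w.2.2)
      ring
    have h2 : Γ⁻¹ (v + w) = Γ⁻¹ v + Γ⁻¹ w := Γ.injective (by simp [h1, Equiv.Perm.inv_def])
    rw [h2, K.add h hh, h1]
  · exact fun a => hu a ▸ hmem _ (K.hu a)
  · exact fun s => ht s ▸ hmem _ (K.ht s)
  · rintro _ ⟨h, hh, rfl⟩ d hd hfix
    have hfix' : Γ (h (Γ⁻¹ (zI d))) = zI d := hfix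
    rw [hzI, ← Equiv.eq_symm_apply] at hfix'
    obtain ⟨a, s, rfl⟩ := K.st h hh d hd (hfix'.trans (hzI d))
    refine ⟨a, s, ?_⟩
    show Γ * (uA a * tA s) * Γ⁻¹ = _
    rw [show Γ * (uA a * tA s) * Γ⁻¹ = (Γ * uA a * Γ⁻¹) * (Γ * tA s * Γ⁻¹) by group, hu, ht]
  · rw [← Nat.card_congr (L.equivMapOfInjective _ (MulAut.conj Γ).injective).toEquiv]
    exact K.part
  · obtain ⟨h, hh, d, hd⟩ := K.move
    refine ⟨_, hmem h hh, d, ?_⟩
    show (Γ (h (Γ⁻¹ (zI d)))).2 ≠ 0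
    rw [hzI, shear_snd]
    exact hd
  · obtain ⟨d, e, hd, he, hno⟩ := K.two
    refine ⟨d, e, hd, he, ?_⟩
    rintro _ ⟨h, hh, rfl⟩ h1
    have h1' : Γ (h (Γ⁻¹ (zI d))) = zI e := h1
    rw [hzI, ← Equiv.eq_symm_apply] at h1'
    exact hno h hh (h1'.trans (hzI e))
  · obtain ⟨hgL, hgh⟩ := mem_cent.1 hg
    refine mem_cent.2 ⟨hmem g hgL, ?_⟩
    calc Γ * g * Γ⁻¹ * hA F = Γ * g * Γ⁻¹ * (Γ * hA F * Γ⁻¹) := by rw [show Γ * hA F * Γ⁻¹ = hA F from ht (-1)]
      _ = Γ * (g * hA F) * Γ⁻¹ := by group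
      _ = Γ * (hA F * g) * Γ⁻¹ := by rw [hgh]
      _ = (Γ * hA F * Γ⁻¹) * (Γ * g * Γ⁻¹) := by group
      _ = _ := by rw [show Γ * hA F * Γ⁻¹ = hA F from ht (-1)]
  · refine Set.eq_of_subset_of_ncard_le ?_ ?_ (Set.toFinite _)
    · rintro _ ⟨_, ⟨d, rfl⟩, rfl⟩
      show Γ (g (Γ⁻¹ (zI d))) ∈ Xs F
      rw [hzI, mem_Xs]
      exact ⟨sub_eq_zero.2 (hgγ d), K.cent_plane hg d⟩
    · rw [Set.ncard_smul_set, Zs, Xs, Set.ncard_range_of_injective, Set.ncard_range_of_injective]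
      · exact fun a b h => congrArg Prod.fst h
      · exact fun a b h => congrArg (fun v : F × F × F => v.2.2) h

section

variable {w : Equiv.Perm (F × F × F)} (hw : w ∈ cent L) (hwZ : w • Zs F = Xs F)

include hw hwZ

theorem orbit_pair : MulAction.orbit (cent L) (Zs F) = {Zs F, Xs F} := by
  refine (Set.eq_of_subset_of_ncard_le ?_ ?_ (Set.toFinite _)).symm
  · rintro Q (rfl | rfl)
    · exact MulAction.mem_orbit_self _
    · exact ⟨⟨w, hw⟩, hwZ⟩
  · rw [K.orbit_two, Set.ncard_pair Xs_ne_Zs.symm]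

theorem smul_Xs : w • Xs F = Zs F := by
  have h : w • Xs F ∈ MulAction.orbit (cent L) (Zs F) :=
    ⟨⟨w * w, mul_mem hw hw⟩, by show (w * w) • Zs F = _; rw [mul_smul, hwZ]⟩
  rw [K.orbit_pair hw hwZ] at h
  exact h.resolve_right fun h1 => Xs_ne_Zs.symm (smul_left_cancel w (hwZ.trans h1.symm)).symm.symm

theorem conic {g : Equiv.Perm (F × F × F)} (hg : g ∈ L) (d : F) :
    (g (zI d)).2.1 ^ 2 = (g (zI d)).1 * (g (zI d)).2.2 := by
  have hmem : g (zI d) ∈ g • Zs F := Set.smul_mem_smul_set ⟨d, rfl⟩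
  by_cases h : g • Zs F = Zs F
  · rw [h] at hmem
    simp [mem_Zs.1 hmem]
  · have hO : g • Zs F ∈ MulAction.orbit L (Zs F) \ {Zs F} := ⟨⟨⟨g, hg⟩, rfl⟩, h⟩
    rw [K.orbit_eq, K.orbit_pair hw hwZ] at hO
    obtain ⟨⟨a, Q⟩, ⟨-, hQ, hQ0⟩, hgQ⟩ := hO
    obtain rfl : Q = Xs F := hQ.resolve_left hQ0
    rw [← (show uA a • Xs F = g • Zs F from hgQ)] at hmem
    obtain ⟨_, ⟨b, rfl⟩, he⟩ := hmem
    have he' : uA a ((0 : F), (0 : F), b) = g (zI d) := he
    rw [← he', uA_apply]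
    ring

theorem w_Zs (d : F) : ∃ b, w (zI d) = (0, 0, b) := by
  have h : w (zI d) ∈ Xs F := hwZ ▸ Set.smul_mem_smul_set ⟨d, rfl⟩
  exact ⟨_, Prod.ext (mem_Xs.1 h).1 (Prod.ext (mem_Xs.1 h).2 rfl)⟩

theorem w_Xs (b : F) : ∃ c, w (0, 0, b) = zI c := by
  have h : w (0, 0, b) ∈ Zs F := K.smul_Xs hw hwZ ▸ Set.smul_mem_smul_set ⟨b, rfl⟩
  exact ⟨_, Prod.ext rfl (mem_Zs.1 h)⟩

theorem w_inv_Xs (b : F) : ∃ d, w⁻¹ (0, 0, b) = zI d := by
  have h : ((0 : F), (0 : F), b) ∈ w • Zs F := hwZ ▸ ⟨b, rfl⟩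
  obtain ⟨_, ⟨d, rfl⟩, hd⟩ := h
  exact ⟨d, by rw [Equiv.Perm.inv_def, Equiv.symm_apply_eq]; exact hd.symm⟩

theorem w_inv_Zs (c : F) : ∃ b, w⁻¹ (zI c) = (0, 0, b) := by
  have h : zI c ∈ w • Xs F := K.smul_Xs hw hwZ ▸ ⟨c, rfl⟩
  obtain ⟨_, ⟨b, rfl⟩, hb⟩ := h
  exact ⟨b, by rw [Equiv.Perm.inv_def, Equiv.symm_apply_eq]; exact hb.symm⟩

/-- Conjugating the torus by `w` gives the other torus. -/
theorem exists_left (s : Fˣ) : ∃ u : Fˣ, w * tA s * w⁻¹ = sAct F (diagM u 1) := by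
  have hwL := (mem_cent.1 hw).1
  have htc : ∀ r : Fˣ, tA r ∈ cent L := fun r => mem_cent.2 ⟨K.ht r, by
    rw [hA, tA_mul, tA_mul, mul_comm]⟩
  obtain ⟨t, ht⟩ : ∃ t, t = w * tA s * w⁻¹ := ⟨_, rfl⟩
  rw [← ht]
  have htcent : t ∈ cent L := ht ▸ mul_mem (mul_mem hw (htc s)) (inv_mem hw)
  have htL := (mem_cent.1 htcent).1
  have hfix : ∀ b : F, t (0, 0, b) = (0, 0, b) := fun b => by
    obtain ⟨d, hd⟩ := K.w_inv_Xs hw hwZ b
    rw [ht, Equiv.Perm.mul_apply, Equiv.Perm.mul_apply, hd, tA_zI, ← hd, Equiv.Perm.inv_def,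
      Equiv.apply_symm_apply]
  have hfix' : ∀ b : F, t⁻¹ (0, 0, b) = (0, 0, b) := fun b => by
    rw [Equiv.Perm.inv_def, Equiv.symm_apply_eq, hfix]
  have hZ : ∀ d, ∃ e, t (zI d) = zI e := fun d => by
    obtain ⟨b, hb⟩ := K.w_inv_Zs hw hwZ d
    obtain ⟨c, hc⟩ := K.w_Xs hw hwZ ((s : F) ^ 2 * b)
    exact ⟨c, by rw [ht, Equiv.Perm.mul_apply, Equiv.Perm.mul_apply, hb, tA_apply, mul_zero, hc]⟩
  have hZ' : ∀ d, ∃ e, t⁻¹ (zI d) = zI e := fun d => by
    obtain ⟨b, hb⟩ := K.w_inv_Zs hw hwZ d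
    obtain ⟨c, hc⟩ := K.w_Xs hw hwZ (((s⁻¹ : Fˣ) : F) ^ 2 * b)
    refine ⟨c, ?_⟩
    rw [ht, mul_inv_rev, mul_inv_rev, inv_inv, tA_inv, Equiv.Perm.mul_apply, Equiv.Perm.mul_apply, hb,
      tA_apply, mul_zero, hc]
  -- the commutators are central, so `t` commutes with the torus
  have hcom : ∀ r : Fˣ, ∃ u : Fˣ, u * u = 1 ∧ t * tA r = tA u * tA r * t := by
    intro r
    obtain ⟨x, hx⟩ : ∃ x, x = t * tA r * t⁻¹ * (tA r)⁻¹ := ⟨_, rfl⟩
    have hxc : x ∈ cent L := hx ▸ mul_mem (mul_mem (mul_mem htcent (htc r)) (inv_mem htcent)) (inv_mem (htc r))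
    obtain ⟨a, u, hau⟩ := K.st x (mem_cent.1 hxc).1 1 one_ne_zero (by
      obtain ⟨e, he⟩ := hZ' 1
      rw [hx, tA_inv, Equiv.Perm.mul_apply, Equiv.Perm.mul_apply, Equiv.Perm.mul_apply, tA_zI, he, tA_zI,
        ← he, Equiv.Perm.inv_def, Equiv.apply_symm_apply])
    obtain rfl : a = 0 := hA_comm_uA K.two_ne (by
      have h1 : uA a ∈ cent L := by
        rw [show uA a = x * (tA u)⁻¹ by rw [hau, mul_inv_cancel_right]]
        exact mul_mem hxc (inv_mem (htc u))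
      exact (mem_cent.1 h1).2.symm)
    rw [uA_zero, one_mul] at hau
    refine ⟨u, ?_, ?_⟩
    · have h1 := congrArg (fun g : Equiv.Perm (F × F × F) => (g (0, 0, 1)).2.2) hau
      rw [hx, tA_inv] at h1
      simp only [Equiv.Perm.mul_apply, tA_apply, mul_zero, mul_one, hfix', hfix] at h1
      rw [← mul_pow, ← Units.val_mul, mul_inv_cancel, Units.val_one, one_pow] at h1
      exact Units.ext (by rw [Units.val_mul, Units.val_one, ← pow_two]; exact h1.symm)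
    · rw [← hau, hx]; group
  have hsq : ∀ r : Fˣ, t * tA (r * r) = tA (r * r) * t := fun r => by
    obtain ⟨u, hu, hut⟩ := hcom r
    rw [← tA_mul, ← mul_assoc, hut, mul_assoc, hut, ← mul_assoc, tA_mul, tA_mul, tA_mul]
    congr 2
    rw [mul_mul_mul_comm, hu, one_mul]
  have hall : ∀ r : Fˣ, t * tA r = tA r * t := fun r => by
    obtain ⟨u, rfl | rfl⟩ := K.exists_sq r
    · exact hsq u
    · rw [show -(u * u) = -1 * (u * u) by simp, ← tA_mul, ← hA, ← mul_assoc, (mem_cent.1 htcent).2,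
        mul_assoc, hsq u, mul_assoc]
  set σ := (t ((0 : F), (1 : F), (0 : F))).2.1 with hσ
  have hY1 : t (0, 1, 0) = (0, σ, 0) := K.cent_Y htcent 1
  have hY : ∀ y : F, t (0, y, 0) = (0, y * σ, 0) := fun y => by
    by_cases hy : y = 0
    · subst hy
      rw [show ((0 : F), (0 : F), (0 : F)) = 0 from rfl, K.map_zero htL, zero_mul]
      rfl
    · have h1 := congrArg (fun g : Equiv.Perm (F × F × F) => g (0, 1, 0)) (hall (Units.mk0 y hy))
      simp only [Equiv.Perm.mul_apply, tA_apply, mul_zero, mul_one, Units.val_mk0] at h1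
      rw [h1, hY1, tA_apply, mul_zero, Units.val_mk0]
  have hσ0 : σ ≠ 0 := fun h => by
    have h1 : t ((0 : F), (1 : F), (0 : F)) = t 0 := by rw [hY1, h, K.map_zero htL]; rfl
    have h2 := congrArg (fun v : F × F × F => v.2.1) (t.injective h1)
    simp at h2
  -- the first coordinate from a conjugated root element
  obtain ⟨e, he⟩ := hZ 1
  have he0 : e ≠ 0 := fun h => K.apply_ne htL one_ne_zero (by rw [he, h]; rfl)
  obtain ⟨a, ha⟩ := K.conj_uA htL he he0 1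
  have ha' : t * uA 1 = uA a * t := by rw [← ha]; group
  have haσ : a = σ := by
    have h1 := congrArg (fun g : Equiv.Perm (F × F × F) => (g (0, 0, 1)).2.1) ha'
    have h2 : uA (1 : F) (0, 0, 1) = zI 1 + ((0 : F), -1, 0) + ((0 : F), 0, 1) := by
      rw [uA_apply]; simp [zI]
    simp only [Equiv.Perm.mul_apply, h2, hfix, uA_apply] at h1
    rw [K.add t htL, K.add t htL, he, hfix, hY] at h1
    simp [zI] at h1
    exact h1.symm
  subst haσ
  have hA' : ∀ x : F, t (zI x) = zI (σ ^ 2 * x) := fun x => by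
    have h1 := congrArg (fun g : Equiv.Perm (F × F × F) => g (0, -(x / 2), 0)) ha'
    have h2 : uA (1 : F) (0, -(x / 2), 0) = zI x + ((0 : F), -(x / 2), 0) := by
      have := K.two_ne
      rw [uA_apply]; simp [zI]; field_simp
    simp only [Equiv.Perm.mul_apply, h2, hY, uA_apply] at h1
    rw [K.add t htL, hY] at h1
    rw [eq_sub_of_add_eq h1]
    have := K.two_ne
    refine Prod.ext ?_ (Prod.ext ?_ ?_) <;> simp [zI]
    field_simp
  refine ⟨Units.mk0 σ hσ0, Equiv.ext fun v => ?_⟩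
  obtain ⟨c, y, b⟩ := v
  rw [show (c, y, b) = zI c + ((0 : F), y, 0) + ((0 : F), 0, b) by simp [zI], K.add t htL, K.add t htL,
    hA', hY, hfix, sAct_apply, sFun_add, sFun_add, ← sAct_apply, ← sAct_apply, ← sAct_apply, zI, zI,
    diag_apply, diag_apply, diag_apply]
  simp [mul_comm]

theorem diag_mem (u t : Fˣ) : sAct F (diagM u t) ∈ L := by
  choose τ hτ using K.exists_left hw hwZ
  have hinj : Function.Injective τ := fun s s' h => by
    have h1 : w * tA s * w⁻¹ = w * tA s' * w⁻¹ := by rw [hτ, hτ, h]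
    have h2 := congrArg (fun g : Equiv.Perm (F × F × F) => (g (0, 1, 0)).2.1)
      (mul_left_cancel (mul_right_cancel h1))
    simp [tA_apply] at h2
    exact Units.ext h2
  obtain ⟨s, hs⟩ := Finite.injective_iff_surjective.1 hinj u
  have h1 : sAct F (diagM u t) = w * tA s * w⁻¹ * tA t := by
    rw [hτ, hs, tA, ← map_mul]
    congr 1
    refine Units.ext (Matrix.ext fun i j => ?_)
    fin_cases i <;> fin_cases j <;> simp [diagM, Matrix.mul_apply, Fin.sum_univ_two]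
  rw [h1]
  have hwL := (mem_cent.1 hw).1
  exact mul_mem (mul_mem (mul_mem hwL (K.ht s)) (inv_mem hwL)) (K.ht t)

theorem eq_lA {x : Equiv.Perm (F × F × F)} (hx : x ∈ L) (hX : ∀ b, x (0, 0, b) = (0, 0, b))
    (h1 : ∀ c, (x (zI c)).1 = c) (h2 : ∀ y, (x (0, y, 0)).1 = 0 ∧ (x (0, y, 0)).2.1 = y) :
    ∃ η, x = lA η := by
  set P : F → F := fun c => (x (zI c)).2.1 with hP
  set S : F → F := fun c => (x (zI c)).2.2 with hS
  have hcon : ∀ c, P c ^ 2 = c * S c := fun c => by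
    have := K.conic hw hwZ hx c
    rwa [h1] at this
  have hadd : ∀ c d, P (c + d) = P c + P d ∧ S (c + d) = S c + S d := fun c d => by
    have e : zI (c + d) = zI c + zI d := by simp [zI]
    simp only [hP, hS, e, K.add x hx, Prod.snd_add, Prod.fst_add, and_self]
  have hlin : ∀ d, P d = d * P 1 := fun d => by
    have h := hcon (1 + d)
    rw [(hadd 1 d).1, (hadd 1 d).2] at h
    have e1 := hcon 1
    have e2 := hcon d
    have : (P d - d * P 1) ^ 2 = 0 := by linear_combination (-d) * h + (d + d ^ 2) * e1 + (1 + d) * e2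
    exact sub_eq_zero.1 (pow_eq_zero_iff two_ne_zero |>.1 this)
  set η := -P 1 with hη
  have hS' : ∀ c, S c = η ^ 2 * c := fun c => by
    by_cases hc : c = 0
    · subst hc
      show (x (zI 0)).2.2 = _
      rw [show zI (0 : F) = 0 from rfl, K.map_zero hx, mul_zero]; rfl
    · refine mul_left_cancel₀ hc ?_
      rw [← hcon, hlin, hη]; ring
  have hzI : ∀ c, x (zI c) = (c, -(η * c), η ^ 2 * c) := fun c => by
    refine Prod.ext (h1 c) (Prod.ext ?_ (hS' c))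
    show P c = _
    rw [hlin, hη]; ring
  have hG : ∀ y, x (0, y, 0) = (0, y, -(2 * η * y)) := fun y => by
    by_cases hy : y = 0
    · subst hy
      simp [show ((0 : F), (0 : F), (0 : F)) = 0 from rfl, K.map_zero hx]
    obtain ⟨d, hd⟩ := K.w_inv_Xs hw hwZ 1
    obtain ⟨g, hG0⟩ : ∃ g, x ((0 : F), y, (0 : F)) = (0, y, g) :=
      ⟨_, Prod.ext (h2 y).1 (Prod.ext (h2 y).2 rfl)⟩
    have hcon' := K.conic hw hwZ (mul_mem (mul_mem hx (K.hu (-y))) (mem_cent.1 hw).1) d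
    have hwd : w (zI d) = (0, 0, 1) := by rw [← hd, Equiv.Perm.inv_def, Equiv.apply_symm_apply]
    have e : uA (-y) ((0 : F), (0 : F), (1 : F)) = zI (y ^ 2) + ((0 : F), y, 0) + ((0 : F), 0, 1) := by
      rw [uA_apply]; simp [zI]
    rw [Equiv.Perm.mul_apply, Equiv.Perm.mul_apply, hwd, e, K.add x hx, K.add x hx, hzI, hG0, hX] at hcon'
    simp at hcon'
    have h4 : y ^ 2 * (g + 2 * η * y) = 0 := by linear_combination -hcon'
    rw [hG0, eq_neg_of_add_eq_zero_left ((mul_eq_zero.1 h4).resolve_left (pow_ne_zero 2 hy))]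
  refine ⟨η, Equiv.ext fun v => ?_⟩
  obtain ⟨c, y, b⟩ := v
  rw [show (c, y, b) = zI c + ((0 : F), y, 0) + ((0 : F), 0, b) by simp [zI], K.add x hx, K.add x hx,
    hzI, hG, hX, lA, sAct_apply, sFun_add, sFun_add, ← sAct_apply, ← sAct_apply, ← sAct_apply, ← lA, zI,
    lA_apply, lA_apply, lA_apply]
  simp

theorem lower_mem (η : F) : lA η ∈ L := by
  have hwL := (mem_cent.1 hw).1
  have hex : ∀ a, ∃ η, w * uA a * w⁻¹ = lA η := fun a => by
    refine K.eq_lA hw hwZ (mul_mem (mul_mem hwL (K.hu a)) (inv_mem hwL)) (fun b => ?_) (fun c => ?_)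
      (fun y => ?_)
    · obtain ⟨d, hd⟩ := K.w_inv_Xs hw hwZ b
      rw [Equiv.Perm.mul_apply, Equiv.Perm.mul_apply, hd, uA_zI, ← hd, Equiv.Perm.inv_def,
        Equiv.apply_symm_apply]
    · obtain ⟨b, hb⟩ := K.w_inv_Zs hw hwZ c
      have e : uA a ((0 : F), (0 : F), b) = zI (a ^ 2 * b) + ((0 : F), -(a * b), 0) + ((0 : F), 0, b) := by
        rw [uA_apply]; simp [zI]
      obtain ⟨b', hb'⟩ := K.w_Zs hw hwZ (a ^ 2 * b)
      rw [Equiv.Perm.mul_apply, Equiv.Perm.mul_apply, hb, e, K.add w hwL, K.add w hwL, hb', K.cent_Y hw,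
        ← hb, Equiv.Perm.inv_def, Equiv.apply_symm_apply]
      simp [zI]
    · obtain ⟨y', hy'⟩ : ∃ y', w⁻¹ ((0 : F), y, (0 : F)) = (0, y', 0) := ⟨_, K.cent_Y (inv_mem hw) y⟩
      have e : uA a ((0 : F), y', (0 : F)) = zI (-(2 * a * y')) + ((0 : F), y', 0) := by
        rw [uA_apply]; simp [zI]
      obtain ⟨b', hb'⟩ := K.w_Zs hw hwZ (-(2 * a * y'))
      rw [Equiv.Perm.mul_apply, Equiv.Perm.mul_apply, hy', e, K.add w hwL, hb', ← hy',
        Equiv.Perm.inv_def, Equiv.apply_symm_apply]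
      simp
  choose φ hφ using hex
  have hinj : Function.Injective φ := fun a a' h => by
    have h1 : w * uA a * w⁻¹ = w * uA a' * w⁻¹ := by rw [hφ, hφ, h]
    have h2 := congrArg (fun g : Equiv.Perm (F × F × F) => (g (0, 0, 1)).2.1)
      (mul_left_cancel (mul_right_cancel h1))
    simpa [uA_apply] using h2
  obtain ⟨a, ha⟩ := Finite.injective_iff_surjective.1 hinj η
  exact ha ▸ hφ a ▸ mul_mem (mul_mem hwL (K.hu a)) (inv_mem hwL)

theorem range_le : (sAct F).range ≤ L := by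
  rintro _ ⟨g, rfl⟩
  obtain ⟨x, e, f, s, t, rfl⟩ := exists_factor g
  rw [map_mul, map_mul, map_mul]
  exact mul_mem (mul_mem (mul_mem (K.hu x) (K.lower_mem hw hwZ e)) (K.diag_mem hw hwZ s t)) (K.hu f)

theorem fix_mem_range {g : Equiv.Perm (F × F × F)} (hg : g ∈ L) (h : g • Zs F = Zs F) :
    g ∈ (sAct F).range := by
  have h0 : (g (zI 1)).2 = 0 := mem_Zs.1 (h ▸ Set.smul_mem_smul_set ⟨1, rfl⟩)
  obtain ⟨A, hA1⟩ : ∃ A, g (zI 1) = zI A := ⟨_, Prod.ext rfl h0⟩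
  have hA0 : A ≠ 0 := fun h => K.apply_ne hg one_ne_zero (by rw [hA1, h]; rfl)
  obtain ⟨u, hu⟩ := K.exists_sq (Units.mk0 A hA0)
  have hdiag : ∀ r : Fˣ, sAct F (diagM r 1) (zI 1) = zI ((r : F) * r) := fun r => by
    rw [zI, diag_apply, mul_zero, mul_zero, mul_one, pow_two]
    rfl
  rcases hu with hu | hu
  · -- a square factor
    have hA2 : A = (u : F) * u := congrArg Units.val hu
    obtain ⟨a, s, has⟩ := K.st _ (mul_mem (inv_mem (K.diag_mem hw hwZ u 1)) hg) 1 one_ne_zero (by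
      rw [Equiv.Perm.mul_apply, hA1, hA2, ← hdiag, Equiv.Perm.inv_def, Equiv.symm_apply_apply])
    rw [inv_mul_eq_iff_eq_mul] at has
    rw [has]
    exact mul_mem ⟨_, rfl⟩ (mul_mem ⟨_, rfl⟩ ⟨_, rfl⟩)
  · exfalso
    have hA2 : A = -((u : F) * u) := congrArg Units.val hu
    have hreach : ∀ d : F, d ≠ 0 → ∃ k ∈ L, k (zI 1) = zI d := by
      intro d hd
      obtain ⟨r, hr⟩ := K.exists_sq (Units.mk0 d hd)
      rcases hr with hr | hr
      · exact ⟨_, K.diag_mem hw hwZ r 1, by rw [hdiag, show d = (r : F) * r from congrArg Units.val hr]⟩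
      · refine ⟨sAct F (diagM (r * u⁻¹) 1) * g, mul_mem (K.diag_mem hw hwZ _ 1) hg, ?_⟩
        rw [Equiv.Perm.mul_apply, hA1, hA2, zI, diag_apply,
          show d = -((r : F) * r) from congrArg Units.val hr]
        simp only [zI, mul_zero, Units.val_mul, Units.val_inv_eq_inv_val, Prod.mk.injEq, and_true]
        field_simp
    obtain ⟨d, e, hd, he, hno⟩ := K.two
    obtain ⟨k, hk, hkd⟩ := hreach d hd
    obtain ⟨k', hk', hke⟩ := hreach e he
    refine hno (k' * k⁻¹) (mul_mem hk' (inv_mem hk)) ?_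
    rw [← hkd, Equiv.Perm.mul_apply, Equiv.Perm.inv_def, Equiv.symm_apply_apply, hke]

theorem eq_range : L = (sAct F).range := by
  refine le_antisymm (fun g hg => ?_) (K.range_le hw hwZ)
  by_cases h : g • Zs F = Zs F
  · exact K.fix_mem_range hw hwZ hg h
  have hO : g • Zs F ∈ MulAction.orbit L (Zs F) \ {Zs F} := ⟨⟨⟨g, hg⟩, rfl⟩, h⟩
  rw [K.orbit_eq, K.orbit_pair hw hwZ] at hO
  obtain ⟨⟨a, Q⟩, ⟨-, hQ, hQ0⟩, hgQ⟩ := hO
  obtain rfl : Q = Xs F := hQ.resolve_left hQ0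
  set k := sAct F (upM a * (upM 1 * lowM (-1) * upM 1)) with hk
  have hkr : k ∈ (sAct F).range := ⟨_, rfl⟩
  have hkL : k ∈ L := K.range_le hw hwZ hkr
  have hkZ : k • Zs F = g • Zs F := by
    rw [hk, map_mul, mul_smul, ← (show uA a • Xs F = g • Zs F from hgQ)]
    show uA a • _ = uA a • _
    congr 1
    refine Set.eq_of_subset_of_ncard_le ?_ ?_ (Set.toFinite _)
    · rintro _ ⟨_, ⟨d, rfl⟩, rfl⟩
      refine mem_Xs.2 ?_
      show (sAct F _ (zI d)).1 = 0 ∧ (sAct F _ (zI d)).2.1 = 0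
      rw [map_mul, map_mul]
      show ((uA (1 : F) * lA (-1 : F) * uA (1 : F) : Equiv.Perm (F × F × F)) (zI d)).1 = 0 ∧
        ((uA (1 : F) * lA (-1 : F) * uA (1 : F) : Equiv.Perm (F × F × F)) (zI d)).2.1 = 0
      simp [Equiv.Perm.mul_apply, zI, uA_apply, lA_apply]
      ring
    · rw [Set.ncard_smul_set, Zs, Xs, Set.ncard_range_of_injective, Set.ncard_range_of_injective]
      · exact fun a b h => congrArg Prod.fst h
      · exact fun a b h => congrArg (fun v : F × F × F => v.2.2) h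
  have h2 : (k⁻¹ * g) • Zs F = Zs F := by rw [mul_smul, ← hkZ, inv_smul_smul]
  have h3 := K.fix_mem_range hw hwZ (mul_mem (inv_mem hkL) hg) h2
  simpa using mul_mem hkr h3

end

theorem ker_sAct : (sAct F).ker = Subgroup.zpowers (Matrix.GeneralLinearGroup.scalar (Fin 2) (-1 : Fˣ)) := by
  refine le_antisymm (fun g hg => ?_) ?_
  · rcases sAct_eq_one hg with rfl | rfl
    · exact one_mem _
    · exact Subgroup.mem_zpowers _
  · rw [Subgroup.zpowers_le, MonoidHom.mem_ker]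
    refine Equiv.ext fun v => ?_
    obtain ⟨c, y, b⟩ := v
    simp [sAct_apply, sFun]

theorem range_equiv : Nonempty ((sAct F).range ≃*
    (Matrix.ProjGenLinGroup (Fin 2) F × Multiplicative (ZMod ((Nat.card F - 1) / 2)))) := by
  classical
  have := Fintype.ofFinite F
  set S := (powMonoidHom 2 : Fˣ →* Fˣ).range
  have hneg1 : (-1 : Fˣ) ≠ 1 := fun h => K.two_ne (by
    have h' : (-1 : F) = 1 := by simpa using congrArg Units.val h
    linear_combination -h')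
  have hsq1 : ∀ u : Fˣ, u ^ 2 = 1 ↔ u = 1 ∨ u = -1 := fun u => by
    constructor
    · intro h
      rcases sq_eq_one_iff.1 (show (u : F) ^ 2 = 1 by simpa using congrArg Units.val h) with h' | h'
      · exact Or.inl (Units.ext h')
      · exact Or.inr (Units.ext h')
    · rintro (rfl | rfl) <;> simp
  have hScard : Nat.card S = (Nat.card F - 1) / 2 := by
    have h := (powMonoidHom 2 : Fˣ →* Fˣ).ker.card_mul_index
    rw [Subgroup.index_ker, Nat.card_units] at h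
    have hk : Nat.card (powMonoidHom 2 : Fˣ →* Fˣ).ker = 2 := by
      have e : ((powMonoidHom 2 : Fˣ →* Fˣ).ker : Set Fˣ) = {-1, 1} := Set.ext fun u => by
        rw [SetLike.mem_coe, MonoidHom.mem_ker, powMonoidHom_apply, hsq1]; simp [or_comm]
      exact (Nat.card_coe_set_eq _).trans (by rw [e, Set.ncard_pair hneg1])
    rw [hk] at h
    show Nat.card (powMonoidHom 2 : Fˣ →* Fˣ).range = _
    omega
  let ψ : Fˣ →* S := (powMonoidHom 2 : Fˣ →* Fˣ).rangeRestrict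
  let θ : GL (Fin 2) F →* Matrix.ProjGenLinGroup (Fin 2) F × S :=
    Matrix.ProjGenLinGroup.mk.prod (ψ.comp Matrix.GeneralLinearGroup.det)
  have hdet : ∀ u : Fˣ, Matrix.GeneralLinearGroup.det (Matrix.GeneralLinearGroup.scalar (Fin 2) u) = u * u :=
    fun u => Units.ext (by simp [pow_two])
  have hθs : Function.Surjective θ := by
    rintro ⟨x, ⟨y, z, hz⟩⟩
    obtain ⟨g, rfl⟩ := Matrix.ProjGenLinGroup.mk_surjective x
    set r := z * (Matrix.GeneralLinearGroup.det g)⁻¹ with hr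
    obtain ⟨u, hu⟩ := K.exists_sq r
    refine ⟨g * Matrix.GeneralLinearGroup.scalar (Fin 2) u, Prod.ext ?_ (Subtype.ext ?_)⟩
    · show Matrix.ProjGenLinGroup.mk (_ * _) = _
      rw [map_mul, Matrix.ProjGenLinGroup.mk_scalar, mul_one]
    · show (Matrix.GeneralLinearGroup.det (g * _)) ^ 2 = y
      rw [map_mul, hdet, ← hz, powMonoidHom_apply, mul_pow]
      have hr2 : r ^ 2 = (u * u) ^ 2 := by
        rcases hu with hu | hu <;> rw [hu]
        rw [neg_sq]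
      rw [← hr2, hr, mul_pow, inv_pow, mul_comm (z ^ 2), mul_inv_cancel_left]
  have hker : θ.ker = (sAct F).ker := by
    rw [K.ker_sAct]
    refine le_antisymm (fun g hg => ?_) ?_
    · rw [MonoidHom.mem_ker] at hg
      have h1 : Matrix.ProjGenLinGroup.mk g = 1 := congrArg Prod.fst hg
      have h2 : (Matrix.GeneralLinearGroup.det g) ^ 2 = 1 :=
        congrArg (fun v : Matrix.ProjGenLinGroup (Fin 2) F × S => (v.2 : Fˣ)) hg
      rw [← Matrix.ProjGenLinGroup.mk_one, Matrix.ProjGenLinGroup.mk_eq_mk_iff] at h1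
      obtain ⟨u, hu⟩ := h1
      have hg' : g = Matrix.GeneralLinearGroup.scalar (Fin 2) u⁻¹ := by
        rw [map_inv]; exact eq_inv_of_mul_eq_one_left hu
      rw [hg', hdet] at h2
      have h3 : u⁻¹ * u⁻¹ = 1 := by
        rcases (hsq1 _).1 h2 with h | h
        · exact h
        · exfalso
          have hmod : Fintype.card F % 4 = 3 := by rw [← Nat.card_eq_fintype_card]; exact K.card
          refine FiniteField.isSquare_neg_one_iff.1 ⟨((u⁻¹ : Fˣ) : F), ?_⟩ hmod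
          rw [← Units.val_mul, h]; simp
      rw [← pow_two] at h3
      rcases (hsq1 _).1 h3 with h | h
      · rw [hg', h, map_one]; exact one_mem _
      · rw [hg', h]; exact Subgroup.mem_zpowers _
    · rw [Subgroup.zpowers_le, MonoidHom.mem_ker]
      refine Prod.ext (Matrix.ProjGenLinGroup.mk_scalar _) (Subtype.ext ?_)
      show (Matrix.GeneralLinearGroup.det _) ^ 2 = 1
      rw [hdet]; simp
  have e1 := (QuotientGroup.quotientKerEquivRange (sAct F)).symm.trans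
    ((QuotientGroup.quotientMulEquivOfEq hker.symm).trans
      (QuotientGroup.quotientKerEquivOfSurjective θ hθs))
  have : NeZero (Nat.card S) := ⟨Nat.card_pos.ne'⟩
  refine ⟨e1.trans (MulEquiv.prodCongr (MulEquiv.refl _) (mulEquivOfCyclicCardEq ?_))⟩
  rw [Nat.card_congr Multiplicative.toAdd, Nat.card_zmod, hScard]

/-- The group is `PGL₂(q) × C_{(q-1)/2}`. -/
theorem nonempty_equiv : Nonempty (L ≃*
    (Matrix.ProjGenLinGroup (Fin 2) F × Multiplicative (ZMod ((Nat.card F - 1) / 2)))) := by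
  obtain ⟨L', K', ⟨e⟩, w, hw, hwZ⟩ := K.exists_conj
  obtain ⟨e'⟩ := K'.range_equiv
  exact ⟨e.trans ((MulEquiv.subgroupCongr (K'.eq_range hw hwZ)).trans e')⟩

end IsCfg

end CfsgLib.RootCent
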