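import Cfsg.Agent.Lib.RootCent.Parabolic
import Cfsg.Agent.Lib.RootCent.Ident
import Cfsg.Agent.Lib.Gaschutz.Split

/-!
The normaliser of the large abelian subgroup in a group with a centraliser `AS F`.
-/

set_option autoImplicit false

open scoped Pointwise

namespace CfsgLib.RootCent

variable {G : Type*} [Group G] {F : Type*} [Field F] {ψ : AS F →* G}

/-- The image of the abelian subgroup. -/
def fv (ψ : AS F →* G) (v : F × F × F) : G := ψ (iota v)

/-- `M` as a subgroup. -/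
def imM (ψ : AS F →* G) : Subgroup G where
  carrier := Set.range (fv ψ)
  one_mem' := ⟨0, by rw [fv, iota_zero, map_one]⟩
  mul_mem' := by
    rintro _ _ ⟨v, rfl⟩ ⟨w, rfl⟩
    exact ⟨v + w, by rw [fv, iota_add, map_mul]; rfl⟩
  inv_mem' := by
    rintro _ ⟨v, rfl⟩
    refine ⟨-v, eq_inv_of_mul_eq_one_left ?_⟩
    rw [fv, fv, ← map_mul, ← iota_add, neg_add_cancel, iota_zero, map_one]

theorem mem_imM {g : G} : g ∈ imM ψ ↔ ∃ v, fv ψ v = g := Iff.rfl

theorem fv_add (v w : F × F × F) : fv ψ (v + w) = fv ψ v * fv ψ w := by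
  rw [fv, iota_add, map_mul]; rfl

theorem fv_zI (d : F) : fv ψ (zI d) = ψ (AS.zc d) := by
  rw [fv]; congr 1

theorem fv_injective (hψ : Function.Injective ψ) : Function.Injective (fv ψ) :=
  hψ.comp iota_injective

/-- The hypotheses. -/
structure Setup [Finite G] [Finite F] (p : ℕ) (ψ : AS F →* G) : Prop where
  prime : p.Prime
  odd : p ≠ 2
  char : CharP F p
  card : Nat.card F % 4 = 3
  inj : Function.Injective ψ
  cen : ∀ d : F, d ≠ 0 → Subgroup.centralizer ({ψ (AS.zc d)} : Set G) = ψ.range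
  syl : ∃ P : Sylow p G, (P : Subgroup G) = (upP F).map ψ
  hc : ∃ (u v : G) (Pu Pv : Sylow p G), orderOf u = p ∧ orderOf v = p ∧
      u ∈ (Pu : Subgroup G) ∧ (∀ y ∈ (Pu : Subgroup G), y * u = u * y) ∧
      v ∈ (Pv : Subgroup G) ∧ (∀ y ∈ (Pv : Subgroup G), y * v = v * y) ∧ ∀ g : G, g * u * g⁻¹ ≠ v
  hnc : ∃ Q R : Sylow p ↥(Subgroup.normalizer (imM ψ : Set G)), Q ≠ R

namespace Setup

variable [Finite G] [Finite F] {p : ℕ} (S : Setup p ψ)

include S

theorem two_ne : (2 : F) ≠ 0 := by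
  have := S.char
  exact Ring.two_ne_zero (by rw [ringChar.eq F p]; exact S.odd)

/-- The coordinates of `M`. -/
noncomputable def coord : (F × F × F) ≃ imM ψ := Equiv.ofInjective (fv ψ) (fv_injective S.inj)

/-- The action of the normaliser of `M` on `M`. -/
noncomputable def rho : Subgroup.normalizer (imM ψ : Set G) →* Equiv.Perm (F × F × F) where
  toFun g :=
    { toFun := fun v => S.coord.symm ⟨(g : G) * fv ψ v * (g : G)⁻¹,
        (Subgroup.mem_normalizer_iff.1 g.2 _).1 ⟨v, rfl⟩⟩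
      invFun := fun v => S.coord.symm ⟨(g : G)⁻¹ * fv ψ v * (g : G),
        by simpa using (Subgroup.mem_normalizer_iff.1 (inv_mem g.2) _).1 ⟨v, rfl⟩⟩
      left_inv := fun v => by
        rw [Equiv.symm_apply_eq]
        refine Subtype.ext ?_
        show (g : G)⁻¹ * ((S.coord (S.coord.symm _) : imM ψ) : G) * (g : G) = fv ψ v
        rw [Equiv.apply_symm_apply]
        simp [mul_assoc]
      right_inv := fun v => by
        rw [Equiv.symm_apply_eq]
        refine Subtype.ext ?_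
        show (g : G) * ((S.coord (S.coord.symm _) : imM ψ) : G) * (g : G)⁻¹ = fv ψ v
        rw [Equiv.apply_symm_apply]
        simp [mul_assoc] }
  map_one' := Equiv.ext fun v => by
    show S.coord.symm _ = v
    rw [Equiv.symm_apply_eq]
    refine Subtype.ext ?_
    show (1 : G) * fv ψ v * (1 : G)⁻¹ = fv ψ v
    simp
  map_mul' g h := Equiv.ext fun v => by
    show S.coord.symm _ = S.coord.symm _
    congr 1
    refine Subtype.ext ?_
    show ((g : G) * (h : G)) * fv ψ v * ((g : G) * (h : G))⁻¹ =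
      (g : G) * ((S.coord (S.coord.symm _) : imM ψ) : G) * (g : G)⁻¹
    rw [Equiv.apply_symm_apply]
    group

theorem fv_rho (g : Subgroup.normalizer (imM ψ : Set G)) (v : F × F × F) :
    fv ψ (S.rho g v) = (g : G) * fv ψ v * (g : G)⁻¹ :=
  congrArg Subtype.val (S.coord.apply_symm_apply ⟨(g : G) * fv ψ v * (g : G)⁻¹, _⟩)

theorem rho_eq {g : Subgroup.normalizer (imM ψ : Set G)} {f : Equiv.Perm (F × F × F)}
    (h : ∀ v, (g : G) * fv ψ v * (g : G)⁻¹ = fv ψ (f v)) : S.rho g = f :=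
  Equiv.ext fun v => fv_injective S.inj (by rw [S.fv_rho, h])

theorem mem_norm {g : G} (h : ∀ v, g * fv ψ v * g⁻¹ ∈ imM ψ) :
    g ∈ Subgroup.normalizer (imM ψ : Set G) :=
  Subgroup.mem_normalizer_fintype (by rintro _ ⟨v, rfl⟩; exact h v)

theorem psi_conj {g : AS F} (hc : g.c = 0) (s : Fˣ) (hs : (s : F) = g.a) (v : F × F × F) :
    ψ g * fv ψ v * (ψ g)⁻¹ = fv ψ (uA g.w1 (tA s v)) := by
  rw [mul_inv_eq_iff_eq_mul, fv, fv, ← map_mul, ← map_mul, conj_iota g hc s hs]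

theorem psi_mem {g : AS F} (hc : g.c = 0) (s : Fˣ) (hs : (s : F) = g.a) :
    ψ g ∈ Subgroup.normalizer (imM ψ : Set G) :=
  S.mem_norm fun v => by rw [S.psi_conj hc s hs]; exact ⟨_, rfl⟩

theorem upP_le : (upP F).map ψ ≤ Subgroup.normalizer (imM ψ : Set G) := by
  rintro _ ⟨g, hg, rfl⟩
  exact S.psi_mem hg.2.1 1 (by rw [Units.val_one, hg.1])

theorem imM_le : imM ψ ≤ (upP F).map ψ := by
  rintro _ ⟨v, rfl⟩
  exact ⟨_, iota_mem_upP v, rfl⟩

theorem centre_upP {x : AS F} (h : ∀ y ∈ upP F, y * x = x * y) : x = AS.zc x.z :=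
  eq_zc_of_commute (fun y hy => h y (heis_le_upP hy)) S.two_ne

theorem ker_rho {g : Subgroup.normalizer (imM ψ : Set G)} : S.rho g = 1 ↔ (g : G) ∈ imM ψ := by
  constructor
  · intro h
    have hg : ∀ v, (g : G) * fv ψ v = fv ψ v * (g : G) := fun v => by
      have := S.fv_rho g v
      rw [h, Equiv.Perm.one_apply] at this
      exact (mul_inv_eq_iff_eq_mul.1 this.symm)
    have h1 : (g : G) ∈ ψ.range := by
      rw [← S.cen 1 one_ne_zero, Subgroup.mem_centralizer_singleton_iff, ← fv_zI]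
      exact hg _
    obtain ⟨y, hy⟩ := h1
    obtain ⟨v, rfl⟩ := centralizes_iota S.two_ne (g := y) fun v => S.inj (by
      rw [map_mul, map_mul, hy]; exact hg v)
    exact ⟨v, hy⟩
  · rintro ⟨w, hw⟩
    refine S.rho_eq fun v => ?_
    rw [← hw, Equiv.Perm.one_apply, mul_inv_eq_iff_eq_mul, fv, fv, ← map_mul, ← map_mul, iota_comm]

theorem card_imM : Nat.card (imM ψ) = Nat.card F ^ 3 := by
  rw [← Nat.card_congr S.coord, Nat.card_prod, Nat.card_prod]
  ring

theorem not_dvd_range : ¬ p * Nat.card F ∣ Nat.card S.rho.range := by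
  intro hd
  have : Fact p.Prime := ⟨S.prime⟩
  obtain ⟨P, hP⟩ := S.syl
  have hPc : Nat.card (P : Subgroup G) = Nat.card F ^ 4 := by
    rw [hP, Subgroup.card_map_of_injective S.inj, card_upP]
  have hker : Nat.card S.rho.ker = Nat.card F ^ 3 := by
    rw [← S.card_imM, ← Nat.card_congr (Subgroup.subgroupOfEquivOfLe (H := imM ψ) Subgroup.le_normalizer).toEquiv]
    rw [show S.rho.ker = (imM ψ).subgroupOf (Subgroup.normalizer (imM ψ : Set G)) from
      Subgroup.ext fun g => by rw [MonoidHom.mem_ker, S.ker_rho, Subgroup.mem_subgroupOf]]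
  have h1 := S.rho.ker.card_mul_index
  rw [Subgroup.index_ker, hker] at h1
  have h2 : Nat.card F ^ 4 * p ∣ Nat.card G := by
    refine dvd_trans ?_ (Subgroup.card_subgroup_dvd_card (Subgroup.normalizer (imM ψ : Set G)))
    rw [← h1, show Nat.card F ^ 4 * p = Nat.card F ^ 3 * (p * Nat.card F) by ring]
    exact mul_dvd_mul_left _ hd
  rw [← (P : Subgroup G).card_mul_index, hPc] at h2
  exact P.not_dvd_index (Nat.dvd_of_mul_dvd_mul_left (pow_pos Nat.card_pos 4) h2)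

theorem exists_move : ∃ g : Subgroup.normalizer (imM ψ : Set G), ∃ d, (S.rho g (zI d)).2 ≠ 0 := by
  by_contra hall
  push Not at hall
  have := S.char
  have : Fact p.Prime := ⟨S.prime⟩
  obtain ⟨P, hP⟩ := S.syl
  have hPN : (P : Subgroup G) ≤ Subgroup.normalizer (imM ψ : Set G) := hP ▸ S.upP_le
  -- every element of the normaliser normalises `P`
  have hnorm : ∀ g : Subgroup.normalizer (imM ψ : Set G), ∀ x ∈ (P : Subgroup G),
      (g : G) * x * (g : G)⁻¹ ∈ (P : Subgroup G) := by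
    intro g
    set d' := (S.rho g (zI 1)).1
    have hd : S.rho g (zI 1) = zI d' := Prod.ext rfl (hall g 1)
    have hα : (g : G) * ψ (AS.zc 1) * (g : G)⁻¹ = ψ (AS.zc d') := by
      rw [← fv_zI, ← fv_zI, ← hd, S.fv_rho]
    have hd' : d' ≠ 0 := by
      intro h0
      have h1 : AS.zc (1 : F) = AS.zc d' * 1 := by
        rw [mul_one]
        refine S.inj ?_
        have h2 : ψ (AS.zc d') = 1 := by rw [h0, show AS.zc (0 : F) = 1 from rfl, map_one]
        rw [h2]
        rw [h2, mul_inv_eq_one, mul_eq_left] at hα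
        exact hα
      have h3 := congrArg AS.z h1
      rw [mul_one, h0] at h3
      exact one_ne_zero h3
    have hC : ∀ x ∈ ψ.range, (g : G) * x * (g : G)⁻¹ ∈ ψ.range := by
      intro x hx
      rw [← S.cen 1 one_ne_zero, Subgroup.mem_centralizer_singleton_iff] at hx
      rw [← S.cen d' hd', Subgroup.mem_centralizer_singleton_iff, ← hα]
      calc _ = (g : G) * (x * ψ (AS.zc 1)) * (g : G)⁻¹ := by group
        _ = (g : G) * (ψ (AS.zc 1) * x) * (g : G)⁻¹ := by rw [hx]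
        _ = _ := by group
    let Q : Subgroup (AS F) := ((MulAut.conj (g : G)) • (P : Subgroup G)).comap ψ
    have hQ : IsPGroup p Q :=
      ((P.isPGroup'.map (MulAut.conj (g : G)).toMonoidHom).comap_of_injective ψ S.inj : _)
    have hu : iota ((0 : F), (0 : F), (1 : F)) ∈ Q := by
      obtain ⟨v, hv⟩ := (Subgroup.mem_normalizer_iff.1 (inv_mem g.2) _).1
        (⟨((0 : F), (0 : F), (1 : F)), rfl⟩ : fv ψ ((0 : F), (0 : F), (1 : F)) ∈ imM ψ)
      rw [Subgroup.mem_comap, Subgroup.mem_pointwise_smul_iff_inv_smul_mem]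
      refine hP ▸ ⟨_, iota_mem_upP v, ?_⟩
      simpa [fv] using hv
    have hle := le_upP hQ hu one_ne_zero rfl rfl
    intro x hx
    obtain ⟨y, hy⟩ := hC x (by rw [hP] at hx; obtain ⟨z, -, rfl⟩ := hx; exact ⟨z, rfl⟩)
    rw [← hy, hP]
    refine ⟨y, hle ?_, rfl⟩
    rw [Subgroup.mem_comap, hy, Subgroup.mem_pointwise_smul_iff_inv_smul_mem]
    simpa [mul_assoc] using hx
  have hn : (P.subtype hPN : Subgroup (Subgroup.normalizer (imM ψ : Set G))).Normal :=
    ⟨fun x hx g => hnorm g x hx⟩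
  obtain ⟨Q, R, hQR⟩ := S.hnc
  have := (Sylow.unique_of_normal (P.subtype hPN) hn)
  exact hQR (Subsingleton.elim Q R)

theorem exists_two : ∃ d e : F, d ≠ 0 ∧ e ≠ 0 ∧
    ∀ g : Subgroup.normalizer (imM ψ : Set G), S.rho g (zI d) ≠ zI e := by
  by_contra hall
  push Not at hall
  have : Fact p.Prime := ⟨S.prime⟩
  obtain ⟨P, hP⟩ := S.syl
  obtain ⟨u, v, Pu, Pv, hu, hv, huP, huc, hvP, hvc, hne⟩ := S.hc
  have key : ∀ (u : G) (Pu : Sylow p G), orderOf u = p → u ∈ (Pu : Subgroup G) →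
      (∀ y ∈ (Pu : Subgroup G), y * u = u * y) → ∃ h : G, ∃ d ≠ 0, h * u * h⁻¹ = ψ (AS.zc d) := by
    intro u Pu hu huP huc
    obtain ⟨h, hh⟩ := MulAction.exists_smul_eq G Pu P
    have hmem : ∀ y, y ∈ (Pu : Subgroup G) ↔ h * y * h⁻¹ ∈ (P : Subgroup G) := fun y => by
      rw [← hh, Sylow.coe_subgroup_smul, ← MulAut.conj_apply, ← MulAut.smul_def]
      exact (Subgroup.smul_mem_pointwise_smul_iff).symm
    obtain ⟨x, hx, hxu⟩ : h * u * h⁻¹ ∈ (upP F).map ψ := hP ▸ (hmem u).1 huP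
    have hxz : x = AS.zc x.z := S.centre_upP fun y hy => S.inj (by
      have h1 := huc (h⁻¹ * ψ y * h) ((hmem _).2 (by
        rw [show h * (h⁻¹ * ψ y * h) * h⁻¹ = ψ y by group, hP]; exact ⟨y, hy, rfl⟩))
      rw [map_mul, map_mul, hxu]
      calc ψ y * (h * u * h⁻¹) = h * ((h⁻¹ * ψ y * h) * u) * h⁻¹ := by group
        _ = h * (u * (h⁻¹ * ψ y * h)) * h⁻¹ := by rw [h1]
        _ = _ := by group)
    refine ⟨h, x.z, fun h0 => ?_, by rw [← hxu, ← hxz]⟩
    rw [hxz, h0, show AS.zc (0 : F) = 1 from rfl, map_one, eq_comm, mul_inv_eq_one, mul_eq_left] at hxu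
    rw [hxu, orderOf_one] at hu
    exact S.prime.one_lt.ne hu
  obtain ⟨h, d, hd, hhd⟩ := key u Pu hu huP huc
  obtain ⟨k, e, he, hke⟩ := key v Pv hv hvP hvc
  obtain ⟨g, hg⟩ := hall d e hd he
  refine hne (k⁻¹ * (g : G) * h) ?_
  calc _ = k⁻¹ * ((g : G) * (h * u * h⁻¹) * (g : G)⁻¹) * k := by group
    _ = k⁻¹ * (k * v * k⁻¹) * k := by rw [hhd, ← fv_zI, ← S.fv_rho, hg, fv_zI, hke]
    _ = v := by group

theorem isCfg : IsCfg p S.rho.range where
  prime := S.prime
  odd := S.odd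
  char := S.char
  card := S.card
  add := by
    rintro _ ⟨g, rfl⟩ v w
    refine fv_injective S.inj ?_
    rw [fv_add, S.fv_rho, S.fv_rho, S.fv_rho, fv_add]
    group
  hu a := ⟨⟨ψ (uE a), S.psi_mem (g := uE a) rfl 1 rfl⟩, S.rho_eq fun v => by
    show ψ (uE a) * _ * _ = _
    rw [S.psi_conj (g := uE a) rfl 1 rfl, tA_one]
    rfl⟩
  ht s := ⟨⟨ψ (AS.sl (s : F) 0 0 ((s⁻¹ : Fˣ) : F) (by simp)), S.psi_mem rfl s rfl⟩,
    S.rho_eq fun v => by
      show ψ _ * _ * _ = _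
      rw [S.psi_conj rfl s rfl]
      show fv ψ (uA 0 (tA s v)) = _
      rw [uA_zero]
      rfl⟩
  st := by
    rintro _ ⟨g, rfl⟩ d hd hfix
    have h1 : (g : G) ∈ ψ.range := by
      rw [← S.cen d hd, Subgroup.mem_centralizer_singleton_iff, ← fv_zI]
      have := S.fv_rho g (zI d)
      rw [hfix] at this
      exact mul_inv_eq_iff_eq_mul.1 this.symm
    obtain ⟨y, hy⟩ := h1
    have hc : y.c = 0 := by
      obtain ⟨w, hw⟩ := (Subgroup.mem_normalizer_iff.1 g.2 _).1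
        (⟨((0 : F), (0 : F), (1 : F)), rfl⟩ : fv ψ ((0 : F), (0 : F), (1 : F)) ∈ imM ψ)
      have h2 : iota w * y = y * iota ((0 : F), (0 : F), (1 : F)) := S.inj (by
        rw [map_mul, map_mul, hy]
        change fv ψ w * (g : G) = (g : G) * fv ψ _
        rw [hw, inv_mul_cancel_right])
      have h3 := congrArg AS.c h2
      have h4 := congrArg AS.d h2
      simp [iota] at h3 h4
      exact h4
    have ha : y.a ≠ 0 := fun h0 => by
      have := y.hdet
      rw [h0, hc] at this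
      simp at this
    exact ⟨y.w1, Units.mk0 y.a ha, S.rho_eq fun v => by
      rw [← hy, S.psi_conj hc (Units.mk0 y.a ha) rfl]; rfl⟩
  part := S.not_dvd_range
  move := by
    obtain ⟨g, d, hd⟩ := S.exists_move
    exact ⟨_, ⟨g, rfl⟩, d, hd⟩
  two := by
    obtain ⟨d, e, hd, he, h⟩ := S.exists_two
    exact ⟨d, e, hd, he, by rintro _ ⟨g, rfl⟩; exact h g⟩

theorem exists_complement :
    ∃ J : Subgroup G, J ≤ Subgroup.normalizer (imM ψ : Set G) ∧
      imM ψ ⊔ J = Subgroup.normalizer (imM ψ : Set G) ∧ imM ψ ⊓ J = ⊥ ∧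
      Nonempty (↥J ≃* (Matrix.ProjGenLinGroup (Fin 2) F × Multiplicative (ZMod ((Nat.card F - 1) / 2)))) := by
  have : Fact p.Prime := ⟨S.prime⟩
  set N := Subgroup.normalizer (imM ψ : Set G) with hN
  let K : Subgroup N := (imM ψ).subgroupOf N
  have : K.Normal := Subgroup.normal_in_normalizer
  have : IsMulCommutative K := ⟨⟨fun a b => by
    obtain ⟨⟨a, ha⟩, v, hv⟩ := a
    obtain ⟨⟨b, hb⟩, w, hw⟩ := b
    refine Subtype.ext (Subtype.ext ?_)
    show a * b = b * a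
    change fv ψ v = a at hv
    change fv ψ w = b at hw
    rw [← hv, ← hw, fv, fv, ← map_mul, ← map_mul, iota_comm]⟩⟩
  obtain ⟨P, hP⟩ := S.syl
  have hPN : (P : Subgroup G) ≤ N := hP ▸ S.upP_le
  let U : Subgroup N := (P : Subgroup G).subgroupOf N
  let A0 : Subgroup G :=
    { carrier := Set.range fun a => ψ (uE a)
      one_mem' := ⟨0, by show ψ (uE 0) = 1; rw [show uE (0 : F) = 1 from rfl, map_one]⟩
      mul_mem' := by rintro _ _ ⟨a, rfl⟩ ⟨b, rfl⟩; exact ⟨a + b, by simp [← uE_mul]⟩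
      inv_mem' := by
        rintro _ ⟨a, rfl⟩
        exact ⟨-a, eq_inv_of_mul_eq_one_left (by
          rw [← map_mul, uE_mul, neg_add_cancel, show uE (0 : F) = 1 from rfl, map_one])⟩ }
  let A : Subgroup N := A0.subgroupOf N
  have hKU : K ≤ U := fun x hx => by
    show (x : G) ∈ (P : Subgroup G)
    rw [hP]; exact S.imM_le hx
  have hA0 : ∀ x ∈ A0, x ∈ (P : Subgroup G) := by
    rintro _ ⟨a, rfl⟩
    rw [hP]; exact ⟨_, uE_mem a, rfl⟩
  have hcop : (Nat.card K).Coprime U.index := by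
    rw [show Nat.card K = Nat.card F ^ 3 from
      (Nat.card_congr (Subgroup.subgroupOfEquivOfLe Subgroup.le_normalizer).toEquiv).trans S.card_imM]
    have := S.char
    have := Fintype.ofFinite F
    obtain ⟨n, -, hn⟩ := FiniteField.card F p
    rw [Nat.card_eq_fintype_card, hn, ← pow_mul]
    refine Nat.Coprime.pow_left _ ((S.prime.coprime_iff_not_dvd).2 fun h => P.not_dvd_index ?_)
    exact h.trans (Subgroup.relIndex_dvd_index_of_le hPN)
  have hAK : A ⊓ K = ⊥ := by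
    rw [eq_bot_iff]
    rintro ⟨x, hx⟩ ⟨⟨a, ha⟩, ⟨v, hv⟩⟩
    have h1 : uE a = iota v := S.inj (ha.trans hv.symm)
    have h2 : a = 0 := congrArg AS.w1 h1
    refine Subtype.ext ?_
    show x = 1
    change ψ (uE a) = x at ha
    rw [← ha, h2, show uE (0 : F) = 1 from rfl, map_one]
  have hKA : K ⊔ A = U := by
    refine le_antisymm (sup_le hKU fun x hx => hA0 _ hx) fun x hx => ?_
    obtain ⟨g, hg, hgx⟩ : (x : G) ∈ (upP F).map ψ := hP ▸ hx
    obtain ⟨v, hv⟩ := upP_decomp hg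
    have hx' : x = ⟨fv ψ v, S.upP_le (S.imM_le ⟨v, rfl⟩)⟩ * ⟨ψ (uE g.w1), S.upP_le ⟨_, uE_mem _, rfl⟩⟩ :=
      Subtype.ext (by rw [← hgx]; show ψ g = fv ψ v * ψ (uE g.w1); rw [fv, ← map_mul, ← hv])
    rw [hx']
    exact mul_mem (Subgroup.mem_sup_left ⟨v, rfl⟩) (Subgroup.mem_sup_right ⟨g.w1, rfl⟩)
  obtain ⟨H, hH⟩ := CfsgLib.Gaschutz.exists_complement hKU hcop hAK hKA
  have hKmem : ∀ x : N, x ∈ K ↔ S.rho x = 1 := fun x => by rw [S.ker_rho]; rfl
  let f : H →* S.rho.range := S.rho.rangeRestrict.comp H.subtype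
  have hf : Function.Bijective f := by
    refine ⟨(injective_iff_map_eq_one f).2 fun x hx => ?_, fun y => ?_⟩
    · have h1 : (x : N) ∈ K := (hKmem _).2 (congrArg Subtype.val hx)
      have h2 : (x : N) ∈ K ⊓ H := ⟨h1, x.2⟩
      rw [hH.disjoint.eq_bot] at h2
      exact Subtype.ext h2
    · obtain ⟨_, g, rfl⟩ := y
      obtain ⟨⟨⟨k, hk⟩, ⟨j, hj⟩⟩, hkj⟩ := hH.2 g
      refine ⟨⟨j, hj⟩, Subtype.ext ?_⟩
      show S.rho j = S.rho g
      rw [← hkj, map_mul, (hKmem k).1 hk, one_mul]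
  obtain ⟨e⟩ := S.isCfg.nonempty_equiv
  refine ⟨H.map N.subtype, Subgroup.map_subtype_le _, ?_, ?_,
    ⟨((H.equivMapOfInjective _ N.subtype_injective).symm.trans (MulEquiv.ofBijective f hf)).trans e⟩⟩
  · refine le_antisymm (sup_le Subgroup.le_normalizer (Subgroup.map_subtype_le _)) fun x hx => ?_
    obtain ⟨⟨⟨k, hk⟩, ⟨j, hj⟩⟩, hkj⟩ := hH.2 ⟨x, hx⟩
    rw [show x = (k : G) * (j : G) from (congrArg Subtype.val hkj).symm]
    exact mul_mem (Subgroup.mem_sup_left hk) (Subgroup.mem_sup_right ⟨j, hj, rfl⟩)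
  · rw [eq_bot_iff]
    rintro _ ⟨hx, ⟨j, hj, rfl⟩⟩
    have h2 : j ∈ K ⊓ H := ⟨hx, hj⟩
    rw [hH.disjoint.eq_bot, Subgroup.mem_bot] at h2
    rw [h2]
    exact one_mem _

end Setup

/-- The normalisers are conjugate, so one may assume a standard position. -/
theorem exists_setup [Finite G] [Finite F] (p : ℕ) [Fact p.Prime] [CharP F p] (hp : p ≠ 2)
    (hq : Nat.card F % 4 = 3) (ψ : AS F →* G) (hψ : Function.Injective ψ)
    (hcen : ∀ d : F, d ≠ 0 → Subgroup.centralizer ({ψ (AS.zc d)} : Set G) = ψ.range)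
    (hc : ∃ (u v : G) (Pu Pv : Sylow p G), orderOf u = p ∧ orderOf v = p ∧
      u ∈ (Pu : Subgroup G) ∧ (∀ y ∈ (Pu : Subgroup G), y * u = u * y) ∧
      v ∈ (Pv : Subgroup G) ∧ (∀ y ∈ (Pv : Subgroup G), y * v = v * y) ∧ ∀ g : G, g * u * g⁻¹ ≠ v)
    (P : Sylow p G) (hP : (P : Subgroup G) ≤ ψ.range)
    (M : Subgroup G) (hMP : M ≤ P) (hMc : IsMulCommutative ↥M) (hMcard : Nat.card M = Nat.card F ^ 3)
    (hnc : ∃ Q R : Sylow p ↥(Subgroup.normalizer (M : Set G)), Q ≠ R) :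
    ∃ J : Subgroup G, J ≤ Subgroup.normalizer (M : Set G) ∧ M ⊔ J = Subgroup.normalizer (M : Set G) ∧
      M ⊓ J = ⊥ ∧
      Nonempty (↥J ≃* (Matrix.ProjGenLinGroup (Fin 2) F × Multiplicative (ZMod ((Nat.card F - 1) / 2)))) := by
  obtain ⟨k, hk⟩ := MulAction.exists_smul_eq (AS F) (sylowUp F p) (P.comapOfInjective ψ hψ hP)
  let ψ' : AS F →* G := ψ.comp (MulAut.conj k).toMonoidHom
  have hψ' : Function.Injective ψ' := hψ.comp (MulAut.conj k).injective
  have hrange : ψ'.range = ψ.range := by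
    refine le_antisymm (by rintro _ ⟨x, rfl⟩; exact ⟨_, rfl⟩) ?_
    rintro _ ⟨x, rfl⟩
    exact ⟨k⁻¹ * x * k, by simp [ψ', mul_assoc]⟩
  have hzc : ∀ d, ψ' (AS.zc d) = ψ (AS.zc d) := fun d => by
    show ψ (k * AS.zc d * k⁻¹) = _
    congr 1
    rw [mul_inv_eq_iff_eq_mul]
    ext <;> simp [AS.zc] <;> ring
  have hPmap : (P : Subgroup G) = (upP F).map ψ' := by
    have h1 : ((P : Subgroup G).comap ψ) = MulAut.conj k • upP F := by
      exact (congrArg (fun Q : Sylow p (AS F) => (Q : Subgroup (AS F))) hk).symm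
    rw [← Subgroup.map_comap_eq_self hP, h1, ← Subgroup.map_map]
    rfl
  have hMle : M.comap ψ' ≤ upP F := fun x hx => by
    have h1 : ψ' x ∈ (P : Subgroup G) := hMP hx
    rw [hPmap] at h1
    obtain ⟨y, hy, hyx⟩ := h1
    exact hψ' hyx ▸ hy
  have hMmap : (M.comap ψ').map ψ' = M :=
    Subgroup.map_comap_eq_self (hMP.trans (hP.trans hrange.ge))
  have h2 : (2 : F) ≠ 0 := Ring.two_ne_zero (by rw [ringChar.eq F p]; exact hp)
  have hM : M = imM ψ' := by
    refine Subgroup.ext fun g => ?_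
    have hmem := eq_range_iota h2 hMle (fun x hx y hy => hψ' (by
      rw [map_mul, map_mul]; exact congrArg Subtype.val (mul_comm' (⟨_, hx⟩ : M) ⟨_, hy⟩)))
      (by rw [← Subgroup.card_map_of_injective hψ', hMmap, hMcard])
    constructor
    · intro hg
      rw [← hMmap] at hg
      obtain ⟨x, hx, rfl⟩ := hg
      obtain ⟨v, rfl⟩ := (hmem x).1 hx
      exact ⟨v, rfl⟩
    · rintro ⟨v, rfl⟩
      exact (hmem (iota v)).2 ⟨v, rfl⟩
  subst hM
  exact Setup.exists_complement (p := p)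
    { prime := Fact.out, odd := hp, char := inferInstance, card := hq, inj := hψ',
      cen := fun d hd => by rw [hzc, hcen d hd, hrange]
      syl := ⟨P, hPmap⟩, hc := hc, hnc := hnc }

end CfsgLib.RootCent
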