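import Cfsg.Agent.Lib.Classical.SympTrans
import Cfsg.Prelude.Def_Classical

/-!
The centraliser of a root transvection in `PSp₄(F)`, `F` of odd characteristic, as the affine
group `F^{1+2} ⋊ SL₂(F)`.
-/

set_option autoImplicit false

namespace CfsgLib.RootCent

open Matrix CfsgLib.Classical Cfsg
open CfsgLib.Classical.SympTrans

variable {F : Type*} [Field F]

/-- An element `(w, z, A)` of the stabiliser of a vector in `Sp₄`. -/
@[ext] structure AS (F : Type*) [Field F] where
  w0 : F
  w1 : F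
  z : F
  a : F
  b : F
  c : F
  d : F
  hdet : a * d - b * c = 1

namespace AS

instance : One (AS F) := ⟨⟨0, 0, 0, 1, 0, 0, 1, by ring⟩⟩

instance : Mul (AS F) := ⟨fun g h =>
  ⟨g.w0 + (g.a * h.w0 + g.b * h.w1), g.w1 + (g.c * h.w0 + g.d * h.w1),
    g.z + h.z + (g.w0 * (g.c * h.w0 + g.d * h.w1) - g.w1 * (g.a * h.w0 + g.b * h.w1)),
    g.a * h.a + g.b * h.c, g.a * h.b + g.b * h.d, g.c * h.a + g.d * h.c, g.c * h.b + g.d * h.d,
    by linear_combination (h.a * h.d - h.b * h.c) * g.hdet + h.hdet⟩⟩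

instance : Inv (AS F) := ⟨fun g =>
  ⟨-(g.d * g.w0 - g.b * g.w1), -(-g.c * g.w0 + g.a * g.w1), -g.z, g.d, -g.b, -g.c, g.a,
    by linear_combination g.hdet⟩⟩

variable (g h : AS F)

@[simp] theorem one_w0 : (1 : AS F).w0 = 0 := rfl
@[simp] theorem one_w1 : (1 : AS F).w1 = 0 := rfl
@[simp] theorem one_z : (1 : AS F).z = 0 := rfl
@[simp] theorem one_a : (1 : AS F).a = 1 := rfl
@[simp] theorem one_b : (1 : AS F).b = 0 := rfl
@[simp] theorem one_c : (1 : AS F).c = 0 := rfl
@[simp] theorem one_d : (1 : AS F).d = 1 := rfl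
@[simp] theorem mul_w0 : (g * h).w0 = g.w0 + (g.a * h.w0 + g.b * h.w1) := rfl
@[simp] theorem mul_w1 : (g * h).w1 = g.w1 + (g.c * h.w0 + g.d * h.w1) := rfl
@[simp] theorem mul_z : (g * h).z =
    g.z + h.z + (g.w0 * (g.c * h.w0 + g.d * h.w1) - g.w1 * (g.a * h.w0 + g.b * h.w1)) := rfl
@[simp] theorem mul_a : (g * h).a = g.a * h.a + g.b * h.c := rfl
@[simp] theorem mul_b : (g * h).b = g.a * h.b + g.b * h.d := rfl
@[simp] theorem mul_c : (g * h).c = g.c * h.a + g.d * h.c := rfl
@[simp] theorem mul_d : (g * h).d = g.c * h.b + g.d * h.d := rfl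

instance : Group (AS F) :=
  Group.ofLeftAxioms
    (fun x y w => by
      ext <;> simp only [mul_w0, mul_w1, mul_z, mul_a, mul_b, mul_c, mul_d] <;> try ring1
      linear_combination (y.w0 * (y.c * w.w0 + y.d * w.w1) - y.w1 * (y.a * w.w0 + y.b * w.w1)) * x.hdet)
    (fun x => by ext <;> simp)
    (fun x => by
      ext <;> simp only [mul_w0, mul_w1, mul_z, mul_a, mul_b, mul_c, mul_d, one_w0, one_w1, one_z, one_a,
        one_b, one_c, one_d] <;>
      first
        | (simp only [Inv.inv]; ring1)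
        | (simp only [Inv.inv]; linear_combination x.hdet))

instance [Finite F] : Finite (AS F) :=
  Finite.of_injective (fun g : AS F => (g.w0, g.w1, g.z, g.a, g.b, g.c, g.d)) fun g h e => by
    simp only [Prod.mk.injEq] at e
    obtain ⟨h1, h2, h3, h4, h5, h6, h7⟩ := e
    exact AS.ext h1 h2 h3 h4 h5 h6 h7

/-- `(0, c, 1)` -/
def zc (c : F) : AS F := ⟨0, 0, c, 1, 0, 0, 1, by ring⟩

/-- `((y, y'), 0, 1)` -/
def hv (y y' : F) : AS F := ⟨y, y', 0, 1, 0, 0, 1, by ring⟩

/-- An element of `SL₂`. -/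
def sl (a b c d : F) (h : a * d - b * c = 1) : AS F := ⟨0, 0, 0, a, b, c, d, h⟩

end AS

local notation "Sp4" F => Matrix.symplecticGroup (Fin 2) F

/-- The matrix of an element of `AS`. -/
def AS.mat (g : AS F) : Matrix (Fin 2 ⊕ Fin 2) (Fin 2 ⊕ Fin 2) F :=
  fromBlocks !![1, g.w0 * g.c - g.w1 * g.a; 0, g.a] !![g.z, g.w0 * g.d - g.w1 * g.b; g.w0, g.b]
    !![0, 0; 0, g.c] !![1, 0; g.w1, g.d]

theorem AS.mat_mem (g : AS F) : g.mat ∈ Sp4 F := by
  refine mem_iff_f.2 fun u v => ?_
  simp only [f_apply, Fin.sum_univ_two, AS.mat, mulVec, dotProduct, Fintype.sum_sum_type,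
    fromBlocks, Matrix.of_apply, Sum.elim_inl, Sum.elim_inr]
  simp
  linear_combination
    (u (.inr 1) * v (.inl 1) - u (.inl 1) * v (.inr 1)) * g.hdet

/-- `AS` inside `Sp₄`. -/
def toSp : AS F →* Matrix.symplecticGroup (Fin 2) F where
  toFun g := ⟨g.mat, g.mat_mem⟩
  map_one' := by
    refine Subtype.ext (Matrix.ext fun i j => ?_)
    rcases i with i | i <;> rcases j with j | j <;> fin_cases i <;> fin_cases j <;>
      simp [AS.mat, Matrix.one_apply]
  map_mul' g h := by
    refine Subtype.ext (Matrix.ext fun i j => ?_)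
    rcases i with i | i <;> rcases j with j | j <;> fin_cases i <;> fin_cases j <;>
      simp [AS.mat, Matrix.mul_apply, Fintype.sum_sum_type, Fin.sum_univ_two] <;>
      first
        | ring1
        | linear_combination (h.w0 * h.c - h.w1 * h.a) * g.hdet
        | linear_combination (h.w0 * h.d - h.w1 * h.b) * g.hdet

theorem toSp_injective : Function.Injective (toSp : AS F →* _) := by
  intro g h e
  have hm : g.mat = h.mat := congrArg Subtype.val e
  exact AS.ext
    (by simpa [AS.mat] using congrFun (congrFun hm (.inl 1)) (.inr 0))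
    (by simpa [AS.mat] using congrFun (congrFun hm (.inr 1)) (.inr 0))
    (by simpa [AS.mat] using congrFun (congrFun hm (.inl 0)) (.inr 0))
    (by simpa [AS.mat] using congrFun (congrFun hm (.inl 1)) (.inl 1))
    (by simpa [AS.mat] using congrFun (congrFun hm (.inl 1)) (.inr 1))
    (by simpa [AS.mat] using congrFun (congrFun hm (.inr 1)) (.inl 1))
    (by simpa [AS.mat] using congrFun (congrFun hm (.inr 1)) (.inr 1))

variable (F) in
/-- The base vector. -/
def eL : Fin 2 ⊕ Fin 2 → F := Pi.single (.inl 0) 1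

theorem eL_ne : eL F ≠ 0 := fun h => by simpa [eL] using congrFun h (.inl 0)

theorem app_toSp_eL (g : AS F) : app (toSp g) (eL F) = eL F := by
  funext i
  show (g.mat *ᵥ Pi.single (.inl 0) 1) i = _
  rw [mulVec_single_one]
  rcases i with i | i <;> fin_cases i <;> simp [AS.mat, eL]

/-- The stabiliser of the base vector is the image of `AS`. -/
theorem exists_toSp {g : Sp4 F} (hg : app g (eL F) = eL F) : ∃ x : AS F, toSp x = g := by
  set A : Matrix (Fin 2 ⊕ Fin 2) (Fin 2 ⊕ Fin 2) F :=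
    (g : Matrix (Fin 2 ⊕ Fin 2) (Fin 2 ⊕ Fin 2) F) with hA
  have col : ∀ i, A i (.inl 0) = eL F i := fun i => by
    have := congrFun hg i
    simpa [app, eL, mulVec_single_one, hA] using this
  have hω : ∀ j k, sympForm 2 F (app g (Pi.single j 1)) (app g (Pi.single k 1)) =
      sympForm 2 F (Pi.single j 1) (Pi.single k 1) := fun j k => f_app g _ _
  have e1 := hω (.inl 1) (.inl 0)
  have e2 := hω (.inr 0) (.inl 0)
  have e3 := hω (.inr 1) (.inl 0)
  have e4 := hω (.inr 1) (.inl 1)
  have e5 := hω (.inr 0) (.inl 1)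
  have e6 := hω (.inr 0) (.inr 1)
  simp only [f_apply, Fin.sum_univ_two, app, mulVec_single_one, col_apply, ← hA, col, eL] at e1 e2 e3 e4 e5 e6
  simp at e1 e2 e3 e4 e5 e6
  refine ⟨⟨A (.inl 1) (.inr 0), A (.inr 1) (.inr 0), A (.inl 0) (.inr 0), A (.inl 1) (.inl 1),
    A (.inl 1) (.inr 1), A (.inr 1) (.inl 1), A (.inr 1) (.inr 1), ?_⟩, ?_⟩
  · rw [e1, e3] at e4
    linear_combination e4
  · refine Subtype.ext (Matrix.ext fun i j => ?_)
    show AS.mat _ i j = A i j
    rw [e1, e2] at e5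
    rw [e2, e3] at e6
    rcases i with i | i <;> rcases j with j | j <;> fin_cases i <;> fin_cases j <;>
      simp [AS.mat, col, eL, e1, e2, e3] <;>
      first
        | linear_combination e5
        | linear_combination -e5
        | linear_combination e6
        | linear_combination -e6

end CfsgLib.RootCent
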