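import Mathlib

/-!
The action of `GL₂(F)` on symmetric two by two matrices, in the coordinates `(c, y, b)` of
`[[c, -y], [-y, b]]`.
-/

set_option autoImplicit false

namespace CfsgLib.RootCent

variable {F : Type*} [Field F]

/-- `g S gᵀ` in coordinates. -/
def sFun (g : Matrix (Fin 2) (Fin 2) F) (v : F × F × F) : F × F × F :=
  (g 0 0 ^ 2 * v.1 - 2 * g 0 0 * g 0 1 * v.2.1 + g 0 1 ^ 2 * v.2.2,
    -(g 0 0 * g 1 0 * v.1) + (g 0 0 * g 1 1 + g 0 1 * g 1 0) * v.2.1 - g 0 1 * g 1 1 * v.2.2,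
    g 1 0 ^ 2 * v.1 - 2 * g 1 0 * g 1 1 * v.2.1 + g 1 1 ^ 2 * v.2.2)

theorem sFun_mul (g h : Matrix (Fin 2) (Fin 2) F) (v : F × F × F) :
    sFun (g * h) v = sFun g (sFun h v) := by
  refine Prod.ext ?_ (Prod.ext ?_ ?_) <;> simp [sFun, Matrix.mul_apply, Fin.sum_univ_two] <;> ring

theorem sFun_one (v : F × F × F) : sFun (1 : Matrix (Fin 2) (Fin 2) F) v = v := by
  refine Prod.ext ?_ (Prod.ext ?_ ?_) <;> simp [sFun]

theorem sFun_add (g : Matrix (Fin 2) (Fin 2) F) (v w : F × F × F) :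
    sFun g (v + w) = sFun g v + sFun g w := by
  refine Prod.ext ?_ (Prod.ext ?_ ?_) <;> simp [sFun] <;> ring

variable (F) in
/-- The action on symmetric matrices. -/
def sAct : GL (Fin 2) F →* Equiv.Perm (F × F × F) where
  toFun g :=
    { toFun := sFun (g : Matrix (Fin 2) (Fin 2) F)
      invFun := sFun ((g⁻¹ : GL (Fin 2) F) : Matrix (Fin 2) (Fin 2) F)
      left_inv := fun v => by rw [← sFun_mul, Units.inv_mul, sFun_one]
      right_inv := fun v => by rw [← sFun_mul, Units.mul_inv, sFun_one] }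
  map_one' := Equiv.ext fun v => sFun_one v
  map_mul' g h := Equiv.ext fun v => sFun_mul _ _ v

theorem sAct_apply (g : GL (Fin 2) F) (v : F × F × F) :
    sAct F g v = sFun (g : Matrix (Fin 2) (Fin 2) F) v := rfl

/-- Upper unitriangular matrix. -/
def upM (a : F) : GL (Fin 2) F :=
  Matrix.GeneralLinearGroup.mkOfDetNeZero !![1, a; 0, 1] (by simp [Matrix.det_fin_two])

/-- Lower unitriangular matrix. -/
def lowM (a : F) : GL (Fin 2) F :=
  Matrix.GeneralLinearGroup.mkOfDetNeZero !![1, 0; a, 1] (by simp [Matrix.det_fin_two])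

/-- Diagonal matrix. -/
def diagM (s t : Fˣ) : GL (Fin 2) F :=
  Matrix.GeneralLinearGroup.mkOfDetNeZero !![(s : F), 0; 0, (t : F)] (by simp [Matrix.det_fin_two])

/-- `sAct` of an upper unitriangular matrix. -/
def uA (a : F) : Equiv.Perm (F × F × F) := sAct F (upM a)

/-- `sAct` of a lower unitriangular matrix. -/
def lA (a : F) : Equiv.Perm (F × F × F) := sAct F (lowM a)

/-- `sAct` of `diag(1, s)`. -/
def tA (s : Fˣ) : Equiv.Perm (F × F × F) := sAct F (diagM 1 s)

theorem uA_apply (a c y b : F) : uA a (c, y, b) = (c - 2 * a * y + a ^ 2 * b, y - a * b, b) := by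
  rw [uA, sAct_apply]; simp [sFun, upM]

theorem lA_apply (a c y b : F) : lA a (c, y, b) = (c, y - a * c, b - 2 * a * y + a ^ 2 * c) := by
  rw [lA, sAct_apply]
  refine Prod.ext ?_ (Prod.ext ?_ ?_) <;> simp [sFun, lowM] <;> ring

theorem diag_apply (s t : Fˣ) (c y b : F) :
    sAct F (diagM s t) (c, y, b) = ((s : F) ^ 2 * c, (s : F) * t * y, (t : F) ^ 2 * b) := by
  rw [sAct_apply]; simp [sFun, diagM]

theorem tA_apply (s : Fˣ) (c y b : F) : tA s (c, y, b) = (c, (s : F) * y, (s : F) ^ 2 * b) := by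
  rw [tA, diag_apply]; simp

theorem uA_mul (a b : F) : uA a * uA b = uA (a + b) := by
  rw [uA, uA, uA, ← map_mul]
  congr 1
  refine Units.ext (Matrix.ext fun i j => ?_)
  fin_cases i <;> fin_cases j <;> simp [upM, Matrix.mul_apply, Fin.sum_univ_two, add_comm]

theorem uA_zero : uA (0 : F) = 1 := by
  rw [uA, ← map_one (sAct F)]
  congr 1
  refine Units.ext (Matrix.ext fun i j => ?_)
  fin_cases i <;> fin_cases j <;> simp [upM]

theorem uA_inv (a : F) : (uA a)⁻¹ = uA (-a) :=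
  inv_eq_of_mul_eq_one_right (by rw [uA_mul, add_neg_cancel, uA_zero])

theorem tA_mul (s t : Fˣ) : tA s * tA t = tA (s * t) := by
  rw [tA, tA, tA, ← map_mul]
  congr 1
  refine Units.ext (Matrix.ext fun i j => ?_)
  fin_cases i <;> fin_cases j <;> simp [diagM, Matrix.mul_apply, Fin.sum_univ_two]

theorem tA_one : tA (1 : Fˣ) = 1 := by
  rw [tA, ← map_one (sAct F)]
  congr 1
  refine Units.ext (Matrix.ext fun i j => ?_)
  fin_cases i <;> fin_cases j <;> simp [diagM]

theorem tA_inv (s : Fˣ) : (tA s)⁻¹ = tA s⁻¹ :=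
  inv_eq_of_mul_eq_one_right (by rw [tA_mul, mul_inv_cancel, tA_one])

variable (F) in
/-- The involution `(c, y, b) ↦ (c, -y, b)`. -/
def hA : Equiv.Perm (F × F × F) := tA (-1)

theorem hA_apply (c y b : F) : hA F (c, y, b) = (c, -y, b) := by simp [hA, tA_apply]

/-- `GL₂` is generated by the three families. -/
theorem exists_factor (g : GL (Fin 2) F) :
    ∃ (x e f : F) (s t : Fˣ), g = upM x * lowM e * diagM s t * upM f := by
  have main : ∀ g : GL (Fin 2) F, (g : Matrix (Fin 2) (Fin 2) F) 0 0 ≠ 0 →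
      ∃ (e f : F) (s t : Fˣ), g = lowM e * diagM s t * upM f := fun g hp => by
    set M := (g : Matrix (Fin 2) (Fin 2) F) with hM
    have hdet : M.det ≠ 0 := (Matrix.isUnit_iff_isUnit_det _).1 g.isUnit |>.ne_zero
    refine ⟨M 1 0 / M 0 0, M 0 1 / M 0 0, Units.mk0 _ hp,
      Units.mk0 (M.det / M 0 0) (div_ne_zero hdet hp), ?_⟩
    refine Units.ext (Matrix.ext fun i j => ?_)
    rw [← hM]
    fin_cases i <;> fin_cases j <;>
      simp [lowM, upM, diagM, Matrix.mul_apply, Fin.sum_univ_two, Matrix.det_fin_two] <;>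
      field_simp <;> ring
  by_cases hp : (g : Matrix (Fin 2) (Fin 2) F) 0 0 = 0
  · obtain ⟨e, f, s, t, he⟩ := main (upM 1 * g) (by
      simp [upM, Matrix.mul_apply, Fin.sum_univ_two, hp]
      intro h0
      have hdet := (Matrix.isUnit_iff_isUnit_det _).1 g.isUnit
      simp [Matrix.det_fin_two, hp, h0] at hdet)
    refine ⟨-1, e, f, s, t, ?_⟩
    rw [mul_assoc, mul_assoc, ← mul_assoc (lowM e), ← he, ← mul_assoc]
    have h1 : upM (-1 : F) * upM 1 = 1 := by
      refine Units.ext (Matrix.ext fun i j => ?_)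
      fin_cases i <;> fin_cases j <;> simp [upM, Matrix.mul_apply, Fin.sum_univ_two]
    rw [h1, one_mul]
  · obtain ⟨e, f, s, t, he⟩ := main g hp
    refine ⟨0, e, f, s, t, ?_⟩
    have h1 : upM (0 : F) = 1 := by
      refine Units.ext (Matrix.ext fun i j => ?_)
      fin_cases i <;> fin_cases j <;> simp [upM]
    rw [h1, one_mul, ← he]

end CfsgLib.RootCent
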