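import Cfsg.Agent.Lib.RootCent.Cent
import Cfsg.Agent.Lib.RootCent.Sym

/-!
The Sylow subgroup of `AS F` and its large elementary abelian subgroup.
-/

set_option autoImplicit false

namespace CfsgLib.RootCent

open Matrix

variable {F : Type*} [Field F]

/-- The linear part. -/
def toM : AS F →* Matrix (Fin 2) (Fin 2) F where
  toFun g := !![g.a, g.b; g.c, g.d]
  map_one' := by
    ext i j; fin_cases i <;> fin_cases j <;> simp
  map_mul' g h := by
    ext i j; fin_cases i <;> fin_cases j <;> simp [Matrix.mul_apply, Fin.sum_univ_two]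

variable (F) in
/-- The Sylow subgroup. -/
def upP : Subgroup (AS F) where
  carrier := {g | g.a = 1 ∧ g.c = 0 ∧ g.d = 1}
  one_mem' := ⟨rfl, rfl, rfl⟩
  mul_mem' := fun {x y} hx hy => by
    obtain ⟨a1, a2, a3⟩ := hx
    obtain ⟨b1, b2, b3⟩ := hy
    simp [a1, a2, a3, b1, b2, b3]
  inv_mem' := fun {x} hx => by
    obtain ⟨a1, a2, a3⟩ := hx
    exact ⟨a3, by show -x.c = 0; simp [a2], a1⟩

theorem mem_upP {g : AS F} : g ∈ upP F ↔ g.a = 1 ∧ g.c = 0 ∧ g.d = 1 := Iff.rfl

theorem heis_le_upP : heis F ≤ upP F := fun _ hg => ⟨hg.1, hg.2.2.1, hg.2.2.2⟩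

/-- The abelian subgroup, with the coordinates of symmetric matrices. -/
def iota (v : F × F × F) : AS F := ⟨v.2.1, 0, v.1, 1, v.2.2, 0, 1, by ring⟩

theorem iota_add (v w : F × F × F) : iota (v + w) = iota v * iota w := by
  ext <;> simp [iota] <;> ring

theorem iota_zero : iota (0 : F × F × F) = 1 := by ext <;> simp [iota]

theorem iota_injective : Function.Injective (iota (F := F)) := fun v w h =>
  Prod.ext (congrArg AS.z h) (Prod.ext (congrArg AS.w0 h) (congrArg AS.b h))

theorem iota_mem_upP (v : F × F × F) : iota v ∈ upP F := ⟨rfl, rfl, rfl⟩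

theorem eq_iota {g : AS F} (hg : g ∈ upP F) (h : g.w1 = 0) : g = iota (g.z, g.w0, g.b) := by
  obtain ⟨ha, hc, hd⟩ := hg
  ext <;> simp [iota, ha, hc, hd, h]

theorem iota_comm (v w : F × F × F) : iota v * iota w = iota w * iota v := by
  rw [← iota_add, ← iota_add, add_comm]

/-- The action of the normaliser on the abelian subgroup. -/
theorem conj_iota (g : AS F) (hc : g.c = 0) (s : Fˣ) (hs : (s : F) = g.a) (v : F × F × F) :
    g * iota v = iota (uA g.w1 (tA s v)) * g := by
  obtain ⟨c, y, b⟩ := v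
  have hd : g.a * g.d = 1 := by linear_combination g.hdet + g.b * hc
  rw [tA_apply, uA_apply]
  ext <;> simp [iota, hs, hc]
  all_goals first
    | ring1
    | linear_combination (b * g.a) * hd
    | linear_combination (-(b * g.a)) * hd

/-- The root element acting as `uA a`. -/
def uE (a : F) : AS F := AS.hv 0 a

theorem uE_mul (a a' : F) : uE a * uE a' = uE (a + a') := by ext <;> simp [uE, AS.hv]

theorem uE_mem (a : F) : uE a ∈ upP F := ⟨rfl, rfl, rfl⟩

theorem upP_decomp {g : AS F} (hg : g ∈ upP F) : ∃ v, g = iota v * uE g.w1 := by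
  obtain ⟨ha, hc, hd⟩ := hg
  refine ⟨(g.z - (g.w0 - g.b * g.w1) * g.w1, g.w0 - g.b * g.w1, g.b), ?_⟩
  ext <;> simp [iota, uE, AS.hv, ha, hc, hd]

variable (F) in
theorem card_upP : Nat.card (upP F) = Nat.card F ^ 4 := by
  rw [show Nat.card F ^ 4 = Nat.card (F × F × F × F) by simp only [Nat.card_prod]; ring]
  exact Nat.card_congr
    { toFun := fun g => (g.1.w0, g.1.w1, g.1.z, g.1.b)
      invFun := fun v => ⟨⟨v.1, v.2.1, v.2.2.1, 1, v.2.2.2, 0, 1, by ring⟩, rfl, rfl, rfl⟩
      left_inv := fun g => Subtype.ext (AS.ext rfl rfl rfl g.2.1.symm rfl g.2.2.1.symm g.2.2.2.symm)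
      right_inv := fun v => rfl }

variable {p : ℕ} [hp : Fact p.Prime] [CharP F p]

theorem trace_two {g : AS F} {k : ℕ} (h : g ^ p ^ k = 1) : g.a + g.d = 2 := by
  have h1 : toM g ^ p ^ k = 1 := by rw [← map_pow, h, map_one]
  have h2 : IsNilpotent (toM g - 1) :=
    ⟨p ^ k, by rw [sub_pow_char_pow_of_commute p k (Commute.one_right _), h1, one_pow, sub_self]⟩
  have h3 := Matrix.isNilpotent_trace_of_isNilpotent h2
  have h4 : (toM g - 1).trace = 0 := h3.eq_zero
  simp [toM, Matrix.trace_fin_two] at h4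
  linear_combination h4

/-- A `p`-subgroup containing an upper unipotent element lies in `upP`. -/
theorem le_upP {Q : Subgroup (AS F)} (hQ : IsPGroup p Q) {u : AS F} (hu : u ∈ Q) (hub : u.b ≠ 0)
    (huc : u.c = 0) (hua : u.a = 1) : Q ≤ upP F := by
  have hpow : ∀ g ∈ Q, ∃ k : ℕ, g ^ p ^ k = 1 := fun g hg => by
    obtain ⟨k, hk⟩ := hQ ⟨g, hg⟩
    exact ⟨k, by simpa using congrArg Subtype.val hk⟩
  intro g hg
  obtain ⟨k, hk⟩ := hpow g hg
  obtain ⟨l, hl⟩ := hpow (u * g) (mul_mem hu hg)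
  have h1 := trace_two hk
  have h2 := trace_two hl
  have hud : u.d = 1 := by
    have := u.hdet
    rw [hua, huc] at this
    linear_combination this
  simp [hua, huc, hud] at h2
  have hc : g.c = 0 := (mul_eq_zero.1 (show u.b * g.c = 0 by linear_combination h2 - h1)).resolve_left hub
  have hd := g.hdet
  rw [hc] at hd
  have ha : (g.a - 1) ^ 2 = 0 := by linear_combination (g.a) * h1 - hd
  have ha' : g.a = 1 := sub_eq_zero.1 (pow_eq_zero_iff two_ne_zero |>.1 ha)
  exact ⟨ha', hc, by linear_combination h1 - ha'⟩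

theorem isPGroup_upP [Finite F] : IsPGroup p (upP F) := by
  have := Fintype.ofFinite F
  obtain ⟨n, -, hn⟩ := FiniteField.card F p
  exact IsPGroup.of_card (n := (n : ℕ) * 4) (by rw [card_upP, Nat.card_eq_fintype_card, hn, ← pow_mul])

variable (F p) in
/-- `upP` as a Sylow subgroup. -/
def sylowUp [Finite F] : Sylow p (AS F) where
  toSubgroup := upP F
  isPGroup' := isPGroup_upP
  is_maximal' := fun hQ hle => le_antisymm
    (le_upP hQ (hle (iota_mem_upP (0, 0, 1))) one_ne_zero rfl rfl) hle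

omit hp in
/-- The elementary abelian subgroup of order `q³` is unique. -/
theorem eq_range_iota [Finite F] (h2 : (2 : F) ≠ 0) {M : Subgroup (AS F)} (hle : M ≤ upP F)
    (hcomm : ∀ x ∈ M, ∀ y ∈ M, x * y = y * x) (hcard : Nat.card M = Nat.card F ^ 3) (g : AS F) :
    g ∈ M ↔ ∃ v, g = iota v := by
  have hw : ∀ x ∈ M, x.w1 = 0 := by
    intro x hx
    by_contra hx1
    obtain ⟨hxa, hxc, hxd⟩ := hle hx
    have hdet : ∀ y ∈ M, y.b * x.w1 = x.b * y.w1 ∧
        2 * x.w1 * y.w0 = 2 * x.w0 * y.w1 - x.w1 * y.w1 * (x.b - y.b) := by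
      intro y hy
      obtain ⟨hya, hyc, hyd⟩ := hle hy
      have h := hcomm x hx y hy
      simp [AS.ext_iff, hxa, hxc, hxd, hya, hyc, hyd] at h
      obtain ⟨h1, -, h3, -⟩ := h
      exact ⟨by linear_combination -h1, by linear_combination -h3⟩
    have hinj : Function.Injective fun y : M => ((y : AS F).w1, (y : AS F).z) := by
      rintro ⟨y, hy⟩ ⟨y', hy'⟩ h
      simp only [Prod.mk.injEq] at h
      obtain ⟨hw1, hz⟩ := h
      obtain ⟨e1, e2⟩ := hdet y hy
      obtain ⟨e1', e2'⟩ := hdet y' hy'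
      have hb : y.b = y'.b := mul_right_cancel₀ hx1 (by rw [e1, e1', hw1])
      have hw0 : y.w0 = y'.w0 := mul_left_cancel₀ (mul_ne_zero h2 hx1) (by rw [e2, e2', hw1, hb])
      obtain ⟨a1, a2, a3⟩ := hle hy
      obtain ⟨b1, b2, b3⟩ := hle hy'
      exact Subtype.ext (AS.ext hw0 hw1 hz (a1.trans b1.symm) hb (a2.trans b2.symm) (a3.trans b3.symm))
    have h4 := Nat.card_le_card_of_injective _ hinj
    rw [hcard, Nat.card_prod] at h4
    have h5 : 1 < Nat.card F := Finite.one_lt_card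
    nlinarith
  let S : Set (AS F) := Set.range iota
  have hS : (M : Set (AS F)) = S := by
    refine Set.eq_of_subset_of_ncard_le (fun x hx => ⟨_, (eq_iota (hle hx) (hw x hx)).symm⟩) ?_
      (Set.toFinite _)
    rw [Set.ncard_range_of_injective iota_injective, ← Nat.card_coe_set_eq]
    show _ ≤ Nat.card M
    rw [hcard, Nat.card_prod, Nat.card_prod]
    exact le_of_eq (by ring)
  rw [← SetLike.mem_coe, hS]
  exact ⟨fun ⟨v, hv⟩ => ⟨v, hv.symm⟩, fun ⟨v, hv⟩ => ⟨v, hv.symm⟩⟩

/-- Elements commuting with the abelian subgroup lie in it. -/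
theorem centralizes_iota (h2 : (2 : F) ≠ 0) {g : AS F} (h : ∀ v, g * iota v = iota v * g) : ∃ v, g = iota v := by
  have e1 := h (0, 1, 0)
  simp [AS.ext_iff, iota] at e1
  obtain ⟨ha, hc, hz⟩ := e1
  have ha' : g.a = 1 := by linear_combination ha
  have hd : g.d = 1 := by
    have := g.hdet
    rw [ha', hc] at this
    linear_combination this
  refine ⟨_, eq_iota ⟨ha', hc, hd⟩ ?_⟩
  rw [ha', hc] at hz
  have hw : (2 : F) * g.w1 = 0 := by linear_combination -hz
  exact (mul_eq_zero.1 hw).resolve_left h2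

end CfsgLib.RootCent
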