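import Cfsg.Agent.Lib.RootCent.Sym

/-!
Conjugates of the root group inside the abelian subgroup: there are exactly two of them in the
plane fixed by the central involution.
-/

set_option autoImplicit false

open scoped Pointwise

namespace CfsgLib.RootCent

variable {F : Type*} [Field F]

/-- The embedding of the root group. -/
def zI (d : F) : F × F × F := (d, 0, 0)

variable (F) in
/-- The root group. -/
def Zs : Set (F × F × F) := Set.range zI

variable (F) in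
/-- The opposite root group. -/
def Xs : Set (F × F × F) := Set.range fun b : F => ((0 : F), (0 : F), b)

theorem mem_Zs {v : F × F × F} : v ∈ Zs F ↔ v.2 = 0 :=
  ⟨by rintro ⟨d, rfl⟩; rfl, fun h => ⟨v.1, Prod.ext rfl h.symm⟩⟩

theorem zI_ne {d : F} (hd : d ≠ 0) : zI d ≠ 0 := fun h => hd (congrArg Prod.fst h)

theorem uA_zI (a d : F) : uA a (zI d) = zI d := by simp [zI, uA_apply]

theorem uA_smul_Zs (a : F) : uA a • Zs F = Zs F := by
  rw [Zs]
  ext v
  constructor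
  · rintro ⟨_, ⟨e, rfl⟩, rfl⟩; exact ⟨e, (uA_zI a e).symm⟩
  · rintro ⟨e, rfl⟩; exact ⟨zI e, ⟨e, rfl⟩, uA_zI a e⟩

theorem tA_zI (s : Fˣ) (d : F) : tA s (zI d) = zI d := by simp [zI, tA_apply]

theorem tA_smul_Zs (s : Fˣ) : tA s • Zs F = Zs F := by
  ext v
  constructor
  · rintro ⟨_, ⟨e, rfl⟩, rfl⟩; exact ⟨e, (tA_zI s e).symm⟩
  · rintro ⟨e, rfl⟩; exact ⟨zI e, ⟨e, rfl⟩, tA_zI s e⟩

theorem tA_smul_Xs (s : Fˣ) : tA s • Xs F = Xs F := by
  ext v
  constructor
  · rintro ⟨_, ⟨e, rfl⟩, rfl⟩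
    exact ⟨(s : F) ^ 2 * e, by show _ = tA s _; rw [tA_apply, mul_zero]⟩
  · rintro ⟨e, rfl⟩
    refine ⟨((0 : F), (0 : F), ((s : F) ^ 2)⁻¹ * e), ⟨_, rfl⟩, ?_⟩
    show tA s _ = _
    rw [tA_apply, mul_zero, mul_inv_cancel_left₀ (pow_ne_zero 2 s.ne_zero)]

theorem hA_fix_iff (h2 : (2 : F) ≠ 0) (v : F × F × F) : hA F v = v ↔ v.2.1 = 0 := by
  obtain ⟨c, y, b⟩ := v
  rw [hA_apply]
  simp only [Prod.mk.injEq, true_and, and_true]
  constructor
  · intro h
    have h' : (2 : F) * y = 0 := by linear_combination -h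
    exact (mul_eq_zero.1 h').resolve_left h2
  · intro h; simp [h]

theorem fix_uA (h2 : (2 : F) ≠ 0) {a : F} (ha : a ≠ 0) {v : F × F × F} (h : uA a v = v) : v.2 = 0 := by
  obtain ⟨c, y, b⟩ := v
  simp [uA_apply, Prod.ext_iff] at h
  obtain ⟨h1, hb⟩ := h
  have hb' : b = 0 := hb.resolve_left ha
  subst hb'
  have : (2 : F) * a * y = 0 := by linear_combination -h1
  simp [h2, ha] at this
  simp [this]

theorem hA_uA (a : F) : hA F * uA a = uA (-a) * hA F := Equiv.ext fun v => by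
  obtain ⟨c, y, b⟩ := v
  simp [Equiv.Perm.mul_apply, uA_apply, hA_apply]
  ring

theorem hA_mul_self : hA F * hA F = 1 := by
  rw [hA, tA_mul, neg_one_mul, neg_neg, tA_one]

theorem uA_hA (h2 : (2 : F) ≠ 0) (a : F) : uA a * hA F = uA (a / 2) * hA F * (uA (a / 2))⁻¹ := by
  rw [uA_inv, mul_assoc, hA_uA, neg_neg, ← mul_assoc, uA_mul]
  congr 2
  field_simp
  ring

theorem hA_comm_uA (h2 : (2 : F) ≠ 0) {a : F} (h : hA F * uA a = uA a * hA F) : a = 0 := by
  rw [hA_uA] at h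
  have h' := congrArg (fun g : Equiv.Perm (F × F × F) => g (0, 0, 1)) (mul_right_cancel h)
  simp [uA_apply] at h'
  have h'' : (2 : F) * a = 0 := by linear_combination h'
  exact (mul_eq_zero.1 h'').resolve_left h2

/-- The data describing the action of `N(M)/M` on `M`. -/
structure IsCfg [Finite F] (p : ℕ) (L : Subgroup (Equiv.Perm (F × F × F))) : Prop where
  prime : p.Prime
  odd : p ≠ 2
  char : CharP F p
  card : Nat.card F % 4 = 3
  add : ∀ g ∈ L, ∀ v w, g (v + w) = g v + g w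
  hu : ∀ a : F, uA a ∈ L
  ht : ∀ s : Fˣ, tA s ∈ L
  st : ∀ g ∈ L, ∀ d : F, d ≠ 0 → g (zI d) = zI d → ∃ a s, g = uA a * tA s
  part : ¬ p * Nat.card F ∣ Nat.card L
  move : ∃ g ∈ L, ∃ d, (g (zI d)).2 ≠ 0
  two : ∃ d e : F, d ≠ 0 ∧ e ≠ 0 ∧ ∀ g ∈ L, g (zI d) ≠ zI e

variable [Finite F] {p : ℕ} {L : Subgroup (Equiv.Perm (F × F × F))}

namespace IsCfg

variable (K : IsCfg p L)

include K

theorem two_ne : (2 : F) ≠ 0 := by
  have := K.char
  exact Ring.two_ne_zero (by rw [ringChar.eq F p]; exact K.odd)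

theorem map_zero {g : Equiv.Perm (F × F × F)} (hg : g ∈ L) : g 0 = 0 := by
  have h := K.add g hg 0 0
  rw [add_zero] at h
  exact left_eq_add.1 h

theorem apply_ne {g : Equiv.Perm (F × F × F)} (hg : g ∈ L) {d : F} (hd : d ≠ 0) : g (zI d) ≠ 0 := by
  intro h
  rw [← K.map_zero hg] at h
  exact zI_ne hd (g.injective h)

theorem uA_pow (a : F) (n : ℕ) : uA a ^ n = uA ((n : F) * a) := by
  induction n with
  | zero => simp [uA_zero]
  | succ n ih => rw [pow_succ, ih, uA_mul, Nat.cast_succ, add_mul, one_mul]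

theorem middle_pow (a : F) (s : Fˣ) (n : ℕ) (y : F) :
    ∃ c, ((uA a * tA s) ^ n) ((0 : F), y, (0 : F)) = (c, (s : F) ^ n * y, 0) := by
  induction n with
  | zero => exact ⟨0, by simp⟩
  | succ n ih =>
    obtain ⟨c, hc⟩ := ih
    refine ⟨c - 2 * a * ((s : F) * ((s : F) ^ n * y)), ?_⟩
    rw [pow_succ', Equiv.Perm.mul_apply, hc, Equiv.Perm.mul_apply, tA_apply, uA_apply]
    simp [pow_succ]
    ring

theorem eq_one_of_pow {a : F} {s : Fˣ} {k : ℕ} (h : (uA a * tA s) ^ p ^ k = 1) : s = 1 := by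
  obtain ⟨c, hc⟩ := K.middle_pow a s (p ^ k) 1
  rw [h, Equiv.Perm.one_apply] at hc
  simp [Prod.ext_iff] at hc
  have hs : s ^ p ^ k = 1 := Units.ext (by simpa using hc.2.symm)
  have := Fintype.ofFinite F
  classical
  have h1 : s ^ Fintype.card Fˣ = 1 := pow_card_eq_one
  rw [← orderOf_eq_one_iff]
  refine Nat.eq_one_of_dvd_coprimes (Nat.Coprime.pow_left k ?_) (orderOf_dvd_of_pow_eq_one hs)
    (orderOf_dvd_of_pow_eq_one h1)
  rw [K.prime.coprime_iff_not_dvd, Fintype.card_units]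
  intro hd
  have := K.char
  obtain ⟨n, hp, hcard⟩ := FiniteField.card F p
  have hpos : 1 ≤ Fintype.card F := Fintype.card_pos
  have : p ∣ Fintype.card F := by rw [hcard]; exact dvd_pow_self p n.ne_zero
  have h3 := Nat.dvd_sub this hd
  rw [Nat.sub_sub_self hpos] at h3
  exact K.prime.one_lt.ne' (Nat.dvd_one.1 h3)

theorem exists_involution {g : Equiv.Perm (F × F × F)} (hg : g ∈ L) (h1 : g ≠ 1) (hsq : g * g = 1)
    {d : F} (hd : d ≠ 0) (hfix : g (zI d) = zI d) : ∃ b, g = uA b * hA F * (uA b)⁻¹ := by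
  obtain ⟨a, s, rfl⟩ := K.st g hg d hd hfix
  obtain ⟨c, hc⟩ := K.middle_pow a s 2 1
  rw [pow_two, hsq, Equiv.Perm.one_apply] at hc
  simp [Prod.ext_iff] at hc
  rcases mul_self_eq_one_iff.1 (show (s : F) * s = 1 by linear_combination -hc.2) with h | h
  · exfalso
    obtain rfl : s = 1 := Units.ext h
    rw [tA_one, mul_one] at h1 hsq
    rw [uA_mul] at hsq
    have h3 := congrArg (fun g : Equiv.Perm (F × F × F) => g (0, 0, 1)) hsq
    simp [uA_apply] at h3
    have : (2 : F) * a = 0 := by linear_combination -h3.2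
    exact h1 (by rw [(mul_eq_zero.1 this).resolve_left K.two_ne, uA_zero])
  · refine ⟨a / 2, ?_⟩
    rw [show s = -1 from Units.ext (by simpa using h)]
    exact uA_hA K.two_ne a

theorem hA_ne : hA F ≠ 1 := by
  intro h
  have h' := congrArg (fun g : Equiv.Perm (F × F × F) => g (0, 1, 0)) h
  simp [hA_apply] at h'
  exact K.two_ne (by linear_combination -h')

theorem conj_hA {g : Equiv.Perm (F × F × F)} (hg : g ∈ L) :
    g⁻¹ * hA F * g ∈ L ∧ g⁻¹ * hA F * g ≠ 1 ∧ (g⁻¹ * hA F * g) * (g⁻¹ * hA F * g) = 1 := by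
  refine ⟨mul_mem (mul_mem (inv_mem hg) (K.ht (-1))) hg, fun h => K.hA_ne ?_, ?_⟩
  · calc hA F = g * (g⁻¹ * hA F * g) * g⁻¹ := by group
      _ = 1 := by rw [h]; group
  · calc _ = g⁻¹ * (hA F * hA F) * g := by group
      _ = 1 := by rw [hA_mul_self]; group

theorem conj_uA {g : Equiv.Perm (F × F × F)} (hg : g ∈ L) {d d' : F} (hgd : g (zI d) = zI d')
    (hd' : d' ≠ 0) (b : F) : ∃ a, g * uA b * g⁻¹ = uA a := by
  have hx : g * uA b * g⁻¹ ∈ L := mul_mem (mul_mem hg (K.hu b)) (inv_mem hg)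
  obtain ⟨a, s, hgs⟩ := K.st _ hx d' hd' (by
    rw [Equiv.Perm.mul_apply, Equiv.Perm.mul_apply, ← hgd, Equiv.Perm.inv_def, Equiv.symm_apply_apply,
      uA_zI])
  have := K.char
  have hs : s = 1 := K.eq_one_of_pow (k := 1) (a := a) (by
    rw [← hgs, pow_one, conj_pow, K.uA_pow, CharP.cast_eq_zero, zero_mul, uA_zero, mul_one, mul_inv_cancel])
  exact ⟨a, by rw [hgs, hs, tA_one, mul_one]⟩

theorem stable {g : Equiv.Perm (F × F × F)} (hg : g ∈ L) {d : F} (hd : d ≠ 0)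
    (h : (g (zI d)).2 = 0) (e : F) : (g (zI e)).2 = 0 := by
  set d' := (g (zI d)).1
  have hgd : g (zI d) = zI d' := Prod.ext rfl h
  have hd' : d' ≠ 0 := fun h0 => K.apply_ne hg hd (by rw [hgd, h0]; rfl)
  obtain ⟨a, hgs⟩ := K.conj_uA hg hgd hd' 1
  have ha : a ≠ 0 := by
    intro ha
    rw [ha, uA_zero, mul_inv_eq_one, mul_eq_left] at hgs
    have h3 := congrArg (fun g : Equiv.Perm (F × F × F) => g (0, 0, 1)) hgs
    simp [uA_apply] at h3
  refine fix_uA K.two_ne ha ?_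
  rw [← hgs, Equiv.Perm.mul_apply, Equiv.Perm.mul_apply, Equiv.Perm.inv_def, Equiv.symm_apply_apply,
    uA_zI]

theorem plane {g : Equiv.Perm (F × F × F)} (hg : g ∈ L) {d : F} (hd : d ≠ 0)
    (h : (g (zI d)).2.1 = 0) (e : F) : (g (zI e)).2.1 = 0 := by
  obtain ⟨hx, -, -⟩ := K.conj_hA hg
  obtain ⟨a, s, hgs⟩ := K.st _ hx d hd (by
    rw [Equiv.Perm.mul_apply, Equiv.Perm.mul_apply, (hA_fix_iff K.two_ne _).2 h, Equiv.Perm.inv_def,
      Equiv.symm_apply_apply])
  refine (hA_fix_iff K.two_ne _).1 ?_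
  have h1 : (g⁻¹ * hA F * g) (zI e) = zI e := by rw [hgs, Equiv.Perm.mul_apply, tA_zI, uA_zI]
  rw [Equiv.Perm.mul_apply, Equiv.Perm.mul_apply, Equiv.Perm.inv_def, Equiv.symm_apply_eq] at h1
  exact h1

theorem b_ne {g : Equiv.Perm (F × F × F)} (hg : g ∈ L) {d : F} (hd : d ≠ 0)
    (hne : (g (zI d)).2 ≠ 0) : (g (zI d)).2.2 ≠ 0 := by
  intro hb
  have hnz : ∀ {e : F}, e ≠ 0 → (g (zI e)).2 ≠ 0 := fun he h => hne (K.stable hg he h d)
  have hall : ∀ e : F, (g (zI e)).2.2 = 0 := by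
    intro e
    by_contra hbe
    have he : e ≠ 0 := fun h => hbe (by rw [h, show zI (0 : F) = 0 from rfl, K.map_zero hg]; rfl)
    set v := g (zI e) with hv
    have h1 : ((uA (v.2.1 / v.2.2) * g) (zI e)).2.1 = 0 := by
      rw [Equiv.Perm.mul_apply, ← hv, uA_apply]
      show v.2.1 - v.2.1 / v.2.2 * v.2.2 = 0
      rw [div_mul_cancel₀ _ hbe, sub_self]
    have h2 := K.plane (mul_mem (K.hu _) hg) he h1 d
    rw [Equiv.Perm.mul_apply, uA_apply] at h2
    simp [hb] at h2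
    exact hne (Prod.ext h2 hb)
  obtain ⟨d₁, d₂, hd₁, hd₂, hno⟩ := K.two
  obtain ⟨x, y, z, hv⟩ : ∃ x y z, g (zI d₁) = (x, y, z) := ⟨_, _, _, rfl⟩
  obtain ⟨x', y', z', hv'⟩ : ∃ x y z, g (zI d₂) = (x, y, z) := ⟨_, _, _, rfl⟩
  obtain rfl : z = 0 := by simpa [hv] using hall d₁
  obtain rfl : z' = 0 := by simpa [hv'] using hall d₂
  have hy : y ≠ 0 := fun h => hnz hd₁ (by rw [hv, h]; rfl)
  have hy' : y' ≠ 0 := fun h => hnz hd₂ (by rw [hv', h]; rfl)
  set t := Units.mk0 (y' / y) (div_ne_zero hy' hy)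
  set a := (x - x') / (2 * y')
  refine hno (g⁻¹ * (uA a * tA t) * g) (mul_mem (mul_mem (inv_mem hg) (mul_mem (K.hu a) (K.ht t))) hg) ?_
  rw [Equiv.Perm.mul_apply, Equiv.Perm.mul_apply, hv, Equiv.Perm.mul_apply, tA_apply, uA_apply,
    Equiv.Perm.inv_def, Equiv.symm_apply_eq, hv']
  have h2 := K.two_ne
  simp only [Prod.mk.injEq, t, Units.val_mk0]
  refine ⟨?_, ?_, by ring⟩
  · simp only [a]; field_simp; ring
  · field_simp; ring

/-- The centraliser of `hA`. -/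
def cent (L : Subgroup (Equiv.Perm (F × F × F))) : Subgroup (Equiv.Perm (F × F × F)) :=
  L ⊓ Subgroup.centralizer {hA F}

end IsCfg

open IsCfg

theorem mem_cent {L : Subgroup (Equiv.Perm (F × F × F))} {g : Equiv.Perm (F × F × F)} :
    g ∈ cent L ↔ g ∈ L ∧ g * hA F = hA F * g := by
  rw [IsCfg.cent, Subgroup.mem_inf, Subgroup.mem_centralizer_singleton_iff]

namespace IsCfg

variable (K : IsCfg p L)

include K

theorem smul_Zs_ne {g : Equiv.Perm (F × F × F)} (hg : g ∈ L) (h : g • Zs F ≠ Zs F) :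
    (g (zI 1)).2 ≠ 0 := by
  intro h0
  refine h ?_
  refine Set.eq_of_subset_of_ncard_le ?_ (by rw [Set.ncard_smul_set]) (Set.toFinite _)
  rintro _ ⟨_, ⟨e, rfl⟩, rfl⟩
  exact mem_Zs.2 (K.stable hg one_ne_zero h0 e)

theorem to_cent {g : Equiv.Perm (F × F × F)} (hg : g ∈ L) (h : (g (zI 1)).2.1 = 0) :
    ∃ b, g * uA b ∈ cent L := by
  obtain ⟨hx, hx1, hx2⟩ := K.conj_hA hg
  obtain ⟨b, hb⟩ := K.exists_involution hx hx1 hx2 one_ne_zero (by
    rw [Equiv.Perm.mul_apply, Equiv.Perm.mul_apply, (hA_fix_iff K.two_ne _).2 h, Equiv.Perm.inv_def,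
      Equiv.symm_apply_apply])
  refine ⟨b, mem_cent.2 ⟨mul_mem hg (K.hu b), ?_⟩⟩
  calc g * uA b * hA F = g * (uA b * hA F * (uA b)⁻¹) * uA b := by group
    _ = hA F * (g * uA b) := by rw [← hb]; group

theorem mem_orbit_cent {g : Equiv.Perm (F × F × F)} (hg : g ∈ L) (h : (g (zI 1)).2.1 = 0) :
    ∃ g' ∈ cent L, g' • Zs F = g • Zs F := by
  obtain ⟨b, hb⟩ := K.to_cent hg h
  exact ⟨g * uA b, hb, by rw [mul_smul, uA_smul_Zs]⟩

theorem cent_plane {g : Equiv.Perm (F × F × F)} (hg : g ∈ cent L) (e : F) : (g (zI e)).2.1 = 0 := by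
  obtain ⟨hgL, hgh⟩ := mem_cent.1 hg
  refine (hA_fix_iff K.two_ne _).1 ?_
  rw [← Equiv.Perm.mul_apply, ← hgh, Equiv.Perm.mul_apply]
  congr 1
  simp [zI, hA_apply]

theorem zero_mem_Zs : (0 : F × F × F) ∈ Zs F := ⟨0, rfl⟩

theorem eq_of_uA_smul {P Q : Set (F × F × F)} {a : F} (hP : P ∈ MulAction.orbit (cent L) (Zs F))
    (hQ : Q ∈ MulAction.orbit (cent L) (Zs F)) (hP0 : P ≠ Zs F) (h : uA a • P = Q) : a = 0 := by
  obtain ⟨⟨g, hg⟩, rfl⟩ := hP
  obtain ⟨⟨g', hg'⟩, rfl⟩ := hQ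
  have hmem : uA a (g (zI 1)) ∈ g' • Zs F := by
    have : uA a (g (zI 1)) ∈ uA a • g • Zs F :=
      Set.smul_mem_smul_set (Set.smul_mem_smul_set ⟨1, rfl⟩)
    have h' : uA a • g • Zs F = g' • Zs F := h
    rw [← h']
    exact this
  obtain ⟨_, ⟨e, rfl⟩, he⟩ := hmem
  have he' : g' (zI e) = uA a (g (zI 1)) := he
  have h1 := K.cent_plane hg' e
  have h2 := K.cent_plane hg 1
  rw [he', uA_apply] at h1
  simp [h2] at h1
  exact h1.resolve_right (K.b_ne (mem_cent.1 hg).1 one_ne_zero (K.smul_Zs_ne (mem_cent.1 hg).1 hP0))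

theorem orbit_eq : MulAction.orbit L (Zs F) \ {Zs F} =
    (fun x : F × Set (F × F × F) => uA x.1 • x.2) ''
      (Set.univ ×ˢ (MulAction.orbit (cent L) (Zs F) \ {Zs F})) := by
  ext P
  constructor
  · rintro ⟨⟨⟨g, hg⟩, rfl⟩, hne⟩
    have hne' : g • Zs F ≠ Zs F := hne
    set v := g (zI 1) with hv
    have hb : v.2.2 ≠ 0 := K.b_ne hg one_ne_zero (K.smul_Zs_ne hg hne')
    set a := v.2.1 / v.2.2
    obtain ⟨g', hg', hgZ⟩ := K.mem_orbit_cent (mul_mem (K.hu a) hg) (by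
      rw [Equiv.Perm.mul_apply, ← hv, uA_apply]
      show v.2.1 - a * v.2.2 = 0
      rw [div_mul_cancel₀ _ hb, sub_self])
    refine ⟨(-a, g' • Zs F), ⟨Set.mem_univ _, ⟨⟨g', hg'⟩, rfl⟩, ?_⟩, ?_⟩
    · intro h
      rw [Set.mem_singleton_iff] at h
      rw [show g' • Zs F = Zs F from h] at hgZ
      refine hne' (smul_left_cancel (uA a) ?_)
      rw [uA_smul_Zs, ← mul_smul, ← hgZ]
    · show uA (-a) • g' • Zs F = g • Zs F
      rw [hgZ, mul_smul, ← uA_inv, inv_smul_smul]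
  · rintro ⟨⟨a, Q⟩, ⟨-, ⟨⟨g, hg⟩, rfl⟩, hQ⟩, rfl⟩
    refine ⟨⟨⟨uA a * g, mul_mem (K.hu a) (mem_cent.1 hg).1⟩, ?_⟩, ?_⟩
    · show (uA a * g) • Zs F = uA a • g • Zs F
      rw [mul_smul]
    intro h
    rw [Set.mem_singleton_iff] at h
    obtain rfl : a = 0 := K.eq_of_uA_smul ⟨⟨g, hg⟩, rfl⟩ ⟨1, one_smul _ _⟩ hQ h
    have h' : uA (0 : F) • g • Zs F = Zs F := h
    rw [uA_zero, one_smul] at h'
    exact hQ h'

theorem ncard_orbit :
    (MulAction.orbit L (Zs F)).ncard =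
      1 + Nat.card F * ((MulAction.orbit (cent L) (Zs F)).ncard - 1) := by
  have h0 : Zs F ∈ MulAction.orbit L (Zs F) := MulAction.mem_orbit_self _
  have h0' : Zs F ∈ MulAction.orbit (cent L) (Zs F) := MulAction.mem_orbit_self _
  rw [← Set.ncard_sdiff_singleton_add_one h0 (Set.toFinite _), K.orbit_eq,
    Set.ncard_image_of_injOn, Set.ncard_prod, Set.ncard_univ,
    Set.ncard_sdiff_singleton_of_mem h0', add_comm]
  rintro ⟨a, P⟩ ⟨-, hP, hP0⟩ ⟨b, Q⟩ ⟨-, hQ, hQ0⟩ h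
  change uA a • P = uA b • Q at h
  have h1 : uA (-b + a) • P = Q := by rw [← uA_mul, mul_smul, h, ← uA_inv, inv_smul_smul]
  have h2 := K.eq_of_uA_smul hP hQ hP0 h1
  obtain rfl : a = b := by linear_combination h2
  rw [neg_add_cancel, uA_zero, one_smul] at h1
  rw [h1]

theorem card_stabilizer :
    Nat.card (MulAction.stabilizer L (Zs F)) =
      Nat.card F * Nat.card (MulAction.stabilizer (cent L) (Zs F)) := by
  rw [← Nat.card_prod]
  symm
  let f : F × MulAction.stabilizer (cent L) (Zs F) → MulAction.stabilizer L (Zs F) := fun x =>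
    ⟨⟨(x.2.1 : Equiv.Perm (F × F × F)) * uA x.1, mul_mem (mem_cent.1 x.2.1.2).1 (K.hu _)⟩, by
      show ((x.2.1 : Equiv.Perm (F × F × F)) * uA x.1) • Zs F = Zs F
      rw [mul_smul, uA_smul_Zs]
      exact x.2.2⟩
  refine Nat.card_eq_of_bijective f ⟨?_, ?_⟩
  · rintro ⟨a, ⟨⟨g, hg⟩, hgs⟩⟩ ⟨b, ⟨⟨g', hg'⟩, hgs'⟩⟩ h
    have h' : g * uA a = g' * uA b :=
      congrArg (fun x : MulAction.stabilizer L (Zs F) => ((x : L) : Equiv.Perm (F × F × F))) h
    have h1 : uA (b + -a) = g'⁻¹ * g := by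
      rw [← uA_mul, ← uA_inv, ← mul_inv_eq_iff_eq_mul.2 h'.symm]; group
    have h2 : b + -a = 0 := hA_comm_uA K.two_ne (by
      have hc : uA (b + -a) ∈ cent L := h1 ▸ mul_mem (inv_mem hg') hg
      exact (mem_cent.1 hc).2.symm)
    obtain rfl : a = b := by linear_combination -h2
    obtain rfl : g = g' := mul_right_cancel h'
    rfl
  · rintro ⟨⟨g, hg⟩, hgs⟩
    have hgs' : g • Zs F = Zs F := hgs
    have h0 : (g (zI 1)).2 = 0 := by
      refine mem_Zs.1 ?_
      rw [← hgs']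
      exact Set.smul_mem_smul_set ⟨1, rfl⟩
    obtain ⟨b, hc⟩ := K.to_cent hg (congrArg Prod.fst h0)
    refine ⟨(-b, ⟨⟨g * uA b, hc⟩, ?_⟩), ?_⟩
    · show (g * uA b) • Zs F = Zs F
      rw [mul_smul, uA_smul_Zs, hgs']
    · refine Subtype.ext (Subtype.ext ?_)
      show g * uA b * uA (-b) = g
      rw [← uA_inv, mul_inv_cancel_right]

theorem not_dvd_cent : ¬ p ∣ Nat.card (cent L) := by
  intro hd
  have := K.char
  have : Fact p.Prime := ⟨K.prime⟩
  have h2 := K.two_ne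
  obtain ⟨⟨x, hx⟩, hxo⟩ := exists_prime_orderOf_dvd_card' p hd
  rw [Subgroup.orderOf_mk] at hxo
  obtain ⟨hxL, hxh⟩ := mem_cent.1 hx
  let φ : Multiplicative F →* L :=
    { toFun := fun a => ⟨uA (Multiplicative.toAdd a), K.hu _⟩
      map_one' := Subtype.ext uA_zero
      map_mul' := fun a b => Subtype.ext (uA_mul _ _).symm }
  have hφ : Function.Injective φ := (injective_iff_map_eq_one φ).2 fun a ha => by
    have h3 := congrArg (fun g : L => (g : Equiv.Perm (F × F × F)) (0, 0, 1)) ha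
    simp [φ, uA_apply] at h3
    exact h3
  have hcard : Nat.card φ.range = Nat.card F :=
    (Nat.card_congr (MonoidHom.ofInjective hφ).toEquiv).symm.trans (Nat.card_congr Multiplicative.toAdd)
  have hpg : IsPGroup p φ.range := by
    refine IsPGroup.of_card (n := (Nat.card F).factorization p) ?_
    rw [hcard]
    have := Fintype.ofFinite F
    obtain ⟨n, -, hn⟩ := FiniteField.card F p
    rw [Nat.card_eq_fintype_card, hn, K.prime.factorization_pow, Finsupp.single_eq_same]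
  have hidx : ¬ p ∣ φ.range.index := fun h => K.part (by
    rw [← φ.range.card_mul_index, hcard, mul_comm p]
    exact mul_dvd_mul_left _ h)
  let P : Sylow p L := hpg.toSylow hidx
  have hz : IsPGroup p (Subgroup.zpowers (⟨x, hxL⟩ : L)) := by
    refine IsPGroup.of_card (n := 1) ?_
    rw [Nat.card_zpowers, Subgroup.orderOf_mk, hxo, pow_one]
  obtain ⟨Q, hQ⟩ := hz.exists_le_sylow
  obtain ⟨g, hg⟩ := MulAction.exists_smul_eq L P Q
  have hxQ : (⟨x, hxL⟩ : L) ∈ Q := hQ (Subgroup.mem_zpowers _)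
  rw [← hg] at hxQ
  have hxQ' : (⟨x, hxL⟩ : L) ∈ MulAut.conj g • (φ.range : Subgroup L) := hxQ
  obtain ⟨_, ⟨a, rfl⟩, hax⟩ := hxQ'
  obtain ⟨g, hgL⟩ := g
  set a' := Multiplicative.toAdd a
  have hax' : g * uA a' * g⁻¹ = x := congrArg Subtype.val hax
  have ha : a' ≠ 0 := by
    intro h0
    rw [h0, uA_zero, mul_one, mul_inv_cancel] at hax'
    rw [← hax', orderOf_one] at hxo
    exact K.prime.one_lt.ne hxo
  obtain ⟨hy, hy1, hy2⟩ := K.conj_hA hgL
  obtain ⟨k, hk⟩ : ∃ k, k = g⁻¹ * hA F * g := ⟨_, rfl⟩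
  rw [← hk] at hy hy1 hy2
  have hcomm : k * uA a' = uA a' * k := by
    have e : uA a' = g⁻¹ * x * g := by rw [← hax']; group
    rw [e, hk]
    calc g⁻¹ * hA F * g * (g⁻¹ * x * g) = g⁻¹ * (hA F * x) * g := by group
      _ = g⁻¹ * (x * hA F) * g := by rw [hxh]
      _ = g⁻¹ * x * g * (g⁻¹ * hA F * g) := by group
  have hkZ : ∀ d, ∃ e, k (zI d) = zI e := fun d => by
    refine ⟨(k (zI d)).1, Prod.ext rfl (fix_uA h2 ha ?_)⟩
    rw [← Equiv.Perm.mul_apply, ← hcomm, Equiv.Perm.mul_apply, uA_zI]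
  by_cases hfix : ∃ d : F, d ≠ 0 ∧ k (zI d) = zI d
  · obtain ⟨d, hd, hkd⟩ := hfix
    obtain ⟨b, hb⟩ := K.exists_involution hy hy1 hy2 hd hkd
    have hcm : (uA b)⁻¹ * uA a' * uA b = uA a' := by
      rw [uA_inv, uA_mul, uA_mul]
      congr 1
      ring
    refine ha (hA_comm_uA h2 ?_)
    rw [hb] at hcomm
    calc hA F * uA a' = (uA b)⁻¹ * (uA b * hA F * (uA b)⁻¹ * uA a') * uA b := by
          conv_lhs => rw [← hcm]
          group
      _ = (uA b)⁻¹ * uA a' * uA b * hA F := by rw [hcomm]; group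
      _ = uA a' * hA F := by rw [hcm]
  · push Not at hfix
    have hneg : ∀ d, k (zI d) = -zI d := fun d => by
      obtain ⟨e, he⟩ := hkZ d
      have hfe : k (zI (d + e)) = zI (d + e) := by
        have h3 : zI (d + e) = zI d + zI e := by simp [zI]
        rw [h3, K.add k hy, he]
        nth_rewrite 2 [← he]
        rw [← Equiv.Perm.mul_apply, hy2, Equiv.Perm.one_apply, add_comm]
      have h4 : d + e = 0 := by
        by_contra h5
        exact hfix _ h5 hfe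
      rw [he, eq_neg_of_add_eq_zero_right h4]
      simp [zI]
    set v := g⁻¹ (zI 1) with hv
    have hv0 : v ≠ 0 := K.apply_ne (inv_mem hgL) one_ne_zero
    have hkv : k v = v := by
      rw [hv, hk, Equiv.Perm.mul_apply, Equiv.Perm.mul_apply, Equiv.Perm.inv_def, Equiv.apply_symm_apply]
      congr 1
      simp [zI, hA_apply]
    have hδ : ∀ w, k w = w → k (uA a' w - w) = uA a' w - w := fun w hw => by
      have h3 : k (uA a' w - w) + k w = k (uA a' w) := by rw [← K.add k hy, sub_add_cancel]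
      rw [hw, ← Equiv.Perm.mul_apply, hcomm, Equiv.Perm.mul_apply, hw] at h3
      exact eq_sub_of_add_eq h3
    have hz : ∀ d, k (zI d) = zI d → d = 0 := fun d h => by
      by_contra h5
      exact hfix d h5 h
    obtain ⟨c, y, b⟩ := v
    have h1 := hδ _ hkv
    have h3 := hδ _ h1
    have e1 : uA a' (c, y, b) - (c, y, b) = (-2 * a' * y + a' ^ 2 * b, -(a' * b), 0) := by
      rw [uA_apply]
      simp only [Prod.mk_sub_mk, Prod.mk.injEq]
      refine ⟨by ring, by ring, by ring⟩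
    rw [e1] at h3 h1
    have e2 : uA a' (-2 * a' * y + a' ^ 2 * b, -(a' * b), (0 : F)) -
        (-2 * a' * y + a' ^ 2 * b, -(a' * b), 0) = zI (2 * a' ^ 2 * b) := by
      rw [uA_apply]
      simp only [zI, Prod.mk_sub_mk, Prod.mk.injEq]
      refine ⟨by ring, by ring, by ring⟩
    rw [e2] at h3
    have hb : b = 0 := by simpa [h2, ha] using hz _ h3
    subst hb
    have e3 : ((-2 * a' * y + a' ^ 2 * 0 : F), -(a' * 0), (0 : F)) = zI (-2 * a' * y) := by simp [zI]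
    rw [e3] at h1
    have hy0 : y = 0 := by simpa [h2, ha] using hz _ h1
    subst hy0
    have hc : c = 0 := hz c hkv
    subst hc
    exact hv0 rfl

theorem axis_of_fix {g : Equiv.Perm (F × F × F)} (hg : g ∈ cent L) (hPZ : g • Zs F ≠ Zs F)
    {s : Fˣ} (hs2 : (s : F) ^ 2 ≠ 1) (h' : tA s • g • Zs F = g • Zs F) : g • Zs F = Xs F := by
  refine Set.eq_of_subset_of_ncard_le ?_ ?_ (Set.toFinite _)
  · rintro _ ⟨_, ⟨d, rfl⟩, rfl⟩
    show g (zI d) ∈ Xs F
    have hgL := (mem_cent.1 hg).1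
    -- the second coordinate separates the points of a conjugate other than `Zs`
    have hinj : Function.Injective fun e => (g (zI e)).2.2 := by
      intro e₁ e₂ he
      by_contra hne
      have h1 : g (zI (e₁ - e₂)) + g (zI e₂) = g (zI e₁) := by
        rw [← K.add g hgL]; simp [zI]
      refine K.smul_Zs_ne hgL hPZ (K.stable hgL (sub_ne_zero.2 hne) ?_ 1)
      refine Prod.ext (K.cent_plane hg _) ?_
      simp only at he
      rw [eq_sub_of_add_eq h1]
      show (g (zI e₁)).2.2 - (g (zI e₂)).2.2 = 0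
      rw [he, sub_self]
    obtain ⟨e, he0⟩ :=
      Finite.injective_iff_surjective.1 hinj ((g (zI d)).2.2 / ((s : F) ^ 2 - 1))
    simp only at he0
    have hmem : tA s (g (zI e)) ∈ g • Zs F := by
      rw [← h']; exact Set.smul_mem_smul_set (Set.smul_mem_smul_set ⟨e, rfl⟩)
    obtain ⟨_, ⟨e', rfl⟩, he'⟩ := hmem
    have he'' : g (zI e') = tA s (g (zI e)) := he'
    have hy : (g (zI e)).2.1 = 0 := K.cent_plane hg e
    have hd : g (zI (e' - e)) = (0, 0, ((s : F) ^ 2 - 1) * (g (zI e)).2.2) := by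
      have h1 : g (zI (e' - e)) + g (zI e) = g (zI e') := by
        rw [← K.add g hgL]; simp [zI]
      rw [he''] at h1
      obtain ⟨c, y, b, hgv⟩ : ∃ c y b, g (zI e) = (c, y, b) := ⟨_, _, _, rfl⟩
      rw [hgv] at hy h1 ⊢
      obtain rfl : y = 0 := hy
      rw [tA_apply] at h1
      rw [eq_sub_of_add_eq h1]
      simp only [Prod.mk_sub_mk, Prod.mk.injEq]
      refine ⟨by ring, by ring, by ring⟩
    have hde : e' - e = d := hinj (by
      show (g (zI (e' - e))).2.2 = (g (zI d)).2.2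
      rw [hd]
      show _ * _ = _
      rw [he0, mul_div_cancel₀ _ (sub_ne_zero.2 hs2)])
    rw [← hde, hd]
    exact ⟨_, rfl⟩
  · rw [Set.ncard_smul_set, Zs, Xs, Set.ncard_range_of_injective, Set.ncard_range_of_injective]
    · exact fun a b h => congrArg Prod.fst h
    · exact fun a b h => congrArg (fun v : F × F × F => v.2.2) h

theorem orbit_mod : ∃ ε, ε ≤ 1 ∧ (Nat.card F - 1) / 2 ∣ (MulAction.orbit (cent L) (Zs F)).ncard - 1 - ε ∧
    ε ≤ (MulAction.orbit (cent L) (Zs F)).ncard - 1 := by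
  classical
  have := Fintype.ofFinite F
  set O := MulAction.orbit (cent L) (Zs F) with hO
  set R := (O \ {Zs F}) \ {Xs F} with hR
  have htc : ∀ s : Fˣ, tA s ∈ cent L := fun s => mem_cent.2 ⟨K.ht s, by
    rw [hA, tA_mul, tA_mul, mul_comm]⟩
  have hRinv : ∀ s : Fˣ, ∀ P ∈ R, tA s • P ∈ R := by
    rintro s P ⟨⟨hPO, hPZ⟩, hPX⟩
    refine ⟨⟨?_, fun h => hPZ ?_⟩, fun h => hPX ?_⟩
    · obtain ⟨g, rfl⟩ := hPO
      exact ⟨⟨tA s, htc s⟩ * g, mul_smul (⟨tA s, htc s⟩ : cent L) g (Zs F)⟩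
    · exact smul_left_cancel (tA s) (h.trans (tA_smul_Zs s).symm)
    · exact smul_left_cancel (tA s) (h.trans (tA_smul_Xs s).symm)
  let : MulAction Fˣ R :=
    { smul := fun s P => ⟨tA s • (P : Set (F × F × F)), hRinv s P P.2⟩
      one_smul := fun P => Subtype.ext (by show tA (1 : Fˣ) • _ = _; rw [tA_one, one_smul])
      mul_smul := fun s t P => Subtype.ext (by
        show tA (s * t) • _ = tA s • tA t • _
        rw [← tA_mul, mul_smul]) }
  have hne1 : (-1 : Fˣ) ≠ 1 := fun h => K.two_ne (by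
    have h' : (-1 : F) = 1 := by simpa using congrArg Units.val h
    linear_combination -h')
  have hstab : ∀ P : R, Nat.card (MulAction.stabilizer Fˣ P) = 2 := by
    rintro ⟨P, ⟨⟨hPO, hPZ⟩, hPX⟩⟩
    obtain ⟨⟨g, hg⟩, rfl⟩ := hPO
    rw [← Set.ncard_pair hne1, ← Nat.card_coe_set_eq]
    refine Nat.card_congr (Equiv.setCongr (Set.ext fun s => ?_))
    rw [SetLike.mem_coe, MulAction.mem_stabilizer_iff, Subtype.ext_iff]
    show tA s • g • Zs F = g • Zs F ↔ s = -1 ∨ s = 1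
    constructor
    · intro h
      have h' : tA s • g • Zs F = g • Zs F := h
      by_contra hs
      have hs2 : (s : F) ^ 2 ≠ 1 := fun h2 => hs ((sq_eq_one_iff.1 h2).symm.imp
        (fun h3 => Units.ext (by simpa using h3)) (fun h3 => Units.ext (by simpa using h3)))
      exact hPX (K.axis_of_fix hg hPZ hs2 h')
    · rintro (rfl | rfl)
      · show tA (-1 : Fˣ) • g • Zs F = g • Zs F
        rw [← mul_smul, show tA (-1 : Fˣ) * g = g * hA F from (mem_cent.1 hg).2.symm, mul_smul, hA, tA_smul_Zs]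
      · show tA (1 : Fˣ) • g • Zs F = g • Zs F
        rw [tA_one, one_smul]
  have horb : ∀ P : R, Nat.card (MulAction.orbit Fˣ P) = (Nat.card F - 1) / 2 := fun P => by
    have h1 : Nat.card (MulAction.orbit Fˣ P) * 2 = Nat.card F - 1 := by
      rw [← hstab P, ← Nat.card_prod, ← Nat.card_units]
      exact Nat.card_congr (MulAction.orbitProdStabilizerEquivGroup _ _)
    omega
  have hdiv : (Nat.card F - 1) / 2 ∣ R.ncard := by
    rw [← Nat.card_coe_set_eq, Nat.card_congr (MulAction.selfEquivSigmaOrbits Fˣ R), Nat.card_sigma]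
    exact Finset.dvd_sum fun i _ => by rw [horb]
  have hZO : Zs F ∈ O := MulAction.mem_orbit_self _
  by_cases hX : Xs F ∈ O \ {Zs F}
  · refine ⟨1, le_rfl, ?_, ?_⟩
    · rwa [hR, Set.ncard_sdiff_singleton_of_mem hX, Set.ncard_sdiff_singleton_of_mem hZO] at hdiv
    · rw [← Set.ncard_sdiff_singleton_of_mem hZO]
      exact Nat.pos_of_ne_zero (Set.ncard_ne_zero_of_mem hX)
  · refine ⟨0, zero_le_one, ?_, Nat.zero_le _⟩
    rw [hR, Set.sdiff_singleton_eq_self hX, Set.ncard_sdiff_singleton_of_mem hZO] at hdiv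
    simpa using hdiv

theorem orbit_two : (MulAction.orbit (cent L) (Zs F)).ncard = 2 := by
  have := K.char
  set n := (MulAction.orbit (cent L) (Zs F)).ncard with hn
  set S := Nat.card (MulAction.stabilizer (cent L) (Zs F)) with hS
  have hcC : n * S = Nat.card (cent L) := by
    rw [hn, hS, ← Nat.card_coe_set_eq, ← Nat.card_prod]
    exact Nat.card_congr (MulAction.orbitProdStabilizerEquivGroup _ _)
  have hcL : (1 + Nat.card F * (n - 1)) * (Nat.card F * S) = Nat.card L := by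
    rw [hn, hS, ← K.ncard_orbit, ← K.card_stabilizer, ← Nat.card_coe_set_eq, ← Nat.card_prod]
    exact Nat.card_congr (MulAction.orbitProdStabilizerEquivGroup _ _)
  set q := Nat.card F with hq
  have hq4 := K.card
  rw [← hq] at hq4
  have hn2 : 2 ≤ n := by
    obtain ⟨g, hg, d, hd⟩ := K.move
    have hne : g • Zs F ≠ Zs F := fun h => hd (mem_Zs.1 (h ▸ Set.smul_mem_smul_set ⟨d, rfl⟩))
    have hmem : g • Zs F ∈ MulAction.orbit L (Zs F) \ {Zs F} := ⟨⟨⟨g, hg⟩, rfl⟩, hne⟩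
    rw [K.orbit_eq] at hmem
    obtain ⟨⟨a, P⟩, ⟨-, hP, hP0⟩, -⟩ := hmem
    exact (Set.one_lt_ncard (Set.toFinite _)).2 ⟨P, hP, Zs F, MulAction.mem_orbit_self _, hP0⟩
  have hSpos : 0 < S := Nat.card_pos
  have hdvd : n ∣ (1 + q * (n - 1)) * q := by
    have h1 : Nat.card (cent L) ∣ Nat.card L := Subgroup.card_dvd_of_le inf_le_left
    rw [← hcC, ← hcL, ← mul_assoc] at h1
    exact Nat.dvd_of_mul_dvd_mul_right hSpos h1
  have hcop : Nat.Coprime n q := by
    have := Fintype.ofFinite F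
    obtain ⟨j, -, hj⟩ := FiniteField.card F p
    rw [hq, Nat.card_eq_fintype_card, hj]
    refine Nat.Coprime.pow_right _ (Nat.Coprime.symm ((K.prime.coprime_iff_not_dvd).2 fun h => K.not_dvd_cent ?_))
    rw [← hcC]
    exact Dvd.dvd.mul_right h _
  have hd1 : n ∣ q - 1 := by
    have h1 := (Nat.Coprime.dvd_mul_right hcop).1 hdvd
    have h2 : (1 + q * (n - 1)) + (q - 1) = q * n := by
      obtain ⟨n', hn'⟩ : ∃ n', n = n' + 1 := ⟨n - 1, by omega⟩
      rw [hn', Nat.add_sub_cancel, mul_add, mul_one]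
      omega
    exact (Nat.dvd_add_right h1).1 (h2 ▸ Dvd.intro_left q rfl)
  set m := (q - 1) / 2 with hm
  have hm2 : q - 1 = 2 * m := by omega
  -- the torus moves all other points of the plane in orbits of length m
  obtain ⟨ε, hε, hmd⟩ : ∃ ε, ε ≤ 1 ∧ (m : ℕ) ∣ n - 1 - ε ∧ ε ≤ n - 1 := K.orbit_mod
  have hle : n ≤ 2 * m := hm2 ▸ Nat.le_of_dvd (by omega) hd1
  rw [hm2] at hd1
  obtain ⟨⟨j, hj⟩, hεn⟩ := hmd
  have hj2 : j < 2 := by
    by_contra h
    have : m * 2 ≤ m * j := Nat.mul_le_mul_left m (by omega)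
    omega
  interval_cases ε <;> interval_cases j
  · omega
  · have h1 : n ∣ 2 * n - 2 * m := Nat.dvd_sub (Dvd.intro_left 2 rfl) hd1
    rw [show 2 * n - 2 * m = 2 by omega] at h1
    have := Nat.le_of_dvd two_pos h1
    omega
  · omega
  · have h1 : n ∣ 2 * n - 2 * m := Nat.dvd_sub (Dvd.intro_left 2 rfl) hd1
    rw [show 2 * n - 2 * m = 4 by omega] at h1
    have h4 := Nat.le_of_dvd (by norm_num) h1
    interval_cases n <;> omega

end IsCfg

end CfsgLib.RootCent
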